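import Cfsg.Agent.H854.JM.Asm
import Cfsg.Agent.H820.J4L.OddEnd
import Cfsg.Agent.H546.JM.Reps
import Cfsg.Agent.H860.JM.PartOne
import Cfsg.Agent.H541.JM.F13
import Cfsg.Agent.H68.JM.F5
import Cfsg.Agent.H705.JM.F18
import Cfsg.Agent.H752.JM.Twelve
import Cfsg.Agent.H795.JM.F11
import Cfsg.Agent.H796.JM.FFourteen
import Cfsg.Agent.H796.JM.FSixteen
import Cfsg.Agent.H825.JM.Lines
import Cfsg.Agent.H41.JM.F9
import Cfsg.Agent.H41.JM.F7

/-!
# S5580: Parts I and II plugged into the final assembly (helper854)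

* `facts` : all the facts on the 2-local geometry of `Spor.J4`;
* `thirteen'` : the 13 classes of maximal subgroups of `Spor.J4` from the rows of Part III.
-/

set_option autoImplicit false

open Cfsg Subgroup

namespace Cfsg.Agent.H854.JM

open Cfsg.Agent.OrdDiv Cfsg.Agent.H866 Cfsg.Agent.H866.J4Ord Cfsg.Agent.H866.J4Min
open Cfsg.Agent.H860.JM (NL Excl OneCl cj Good geo Facts)

/-- the group `Spor.J4` -/
local notation "𝒢" => Cfsg.Spor.J4

/-- **the facts on the 2-local geometry of `Spor.J4`** -/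
theorem facts : Facts geo where
  f0 := H860.JM.f0
  f1 := H860.JM.f1
  f2 := H860.JM.f2
  f3 := H860.JM.f3
  f4 := H860.JM.f4
  f5 := H68.JM.f5
  f6 := H825.JM.f6 H68.JM.f5
  f7 := H41.JM.f7
  f9 := H41.JM.f9
  f11 := H795.JM.f11 H41.JM.f9
  f12 := H752.JM.f12
  f13 := Cfsg.Agent.H541.JM.F13.f13 H860.JM.f4
  f14 := H796.JM.f14
  f16 := H796.JM.f16
  f17 := H68.JM.f17
  f18 := H705.JM.f18 H860.JM.f1 H860.JM.f3 H860.JM.f4 H68.JM.f5 (H825.JM.f6 H68.JM.f5) H41.JM.f7 H41.JM.f9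
    (Cfsg.Agent.H541.JM.F13.f13 H860.JM.f4)

/-- **Part I** -/
theorem good_J (M : Subgroup 𝒢) (hM : IsCoatom M) (Q₀ : Subgroup 𝒢) (h0 : Q₀ ≠ ⊥) (h2 : IsPGroup 2 Q₀) (hle : Q₀ ≤ M)
    (hn : M ≤ normalizer (Q₀ : Set 𝒢)) : Good geo M := by
  have := simple_J
  exact H860.JM.good noncomm_J geo facts M hM Q₀ h0 h2 hle hn

/-- **the 13 classes, from the rows of Part III** -/
theorem thirteen' (R : Rows) (T : OrderTable.{0}) (hS : Known.{0}) (H : St81) : Thirteen 𝒢 := by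
  have := simple_J
  obtain ⟨f8, h1, h2, h3, h4⟩ := H546.JM.reps8 T hS
  refine thirteen R T hS H f8 h1 h2 h3 good_J ?_
  intro M hM p hp hp2 Q₀ hQ hQp hQM hn
  have := Fact.mk hp
  have : Fact (Nat.Prime 11) := ⟨by norm_num⟩
  have : Fact (Nat.Prime 29) := ⟨by norm_num⟩
  have : Fact (Nat.Prime 37) := ⟨by norm_num⟩
  have : Fact (Nat.Prime 43) := ⟨by norm_num⟩
  rcases Cfsg.Agent.H820.J4L.odd_local noncomm_J janko (J4Facts.facts T hS noncomm_J janko) (MulEquiv.refl _) hp2 hM hQ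
    hQM hn hQp with ⟨Q, k1, k2, k4, k5⟩ | ⟨U, rfl⟩ | ⟨U, rfl⟩ | ⟨U, rfl⟩ | ⟨U, rfl⟩
  · exact h3 M hM (good_J M hM Q k1 k2 k4 k5)
  · exact h4 11 (by simp) U
  · exact h4 29 (by simp) U
  · exact h4 37 (by simp) U
  · exact h4 43 (by simp) U

end Cfsg.Agent.H854.JM
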