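import Cfsg.Agent.H854.JM.Five
import Cfsg.Agent.H859.Iso

/-!
# S5580: the final assembly (helper854)

* `Thirteen G` : the conclusion of S5580 in the form "a family of 13 maximal subgroups of different orders";
* `Thirteen.stmt`, `Thirteen.map` : it implies the statement, and is invariant under isomorphisms;
* `thirteen` : `Thirteen Spor.J4` from the pieces.
-/

set_option autoImplicit false

open Cfsg Subgroup

namespace Cfsg.Agent.H854.JM

open Cfsg.Agent.OrdDiv Cfsg.Agent.H866 Cfsg.Agent.H866.J4Ord Cfsg.Agent.H866.J4Min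
open Cfsg.Agent.H860.JM (NL Excl OneCl cj Good geo)

/-- the group `Spor.J4` -/
local notation "𝒢" => Cfsg.Spor.J4

/-- the conclusion of S5580 -/
def Stmt (G : Type*) [Group G] : Prop :=
  ∃ S : Finset (Subgroup G), S.card = 13 ∧ (∀ M ∈ S, IsCoatom M) ∧
      (∀ M₁ ∈ S, ∀ M₂ ∈ S, ∀ g : G, M₂ = M₁.map (MulAut.conj g).toMonoidHom → M₁ = M₂) ∧
      ∀ M : Subgroup G, IsCoatom M → ∃ M₀ ∈ S, ∃ g : G, M = M₀.map (MulAut.conj g).toMonoidHom

/-- a family of 13 maximal subgroups of different orders, one in every class -/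
def Thirteen (G : Type*) [Group G] : Prop :=
  ∃ f : Fin 13 → Subgroup G, (∀ i, IsCoatom (f i)) ∧ (Function.Injective fun i => Nat.card (f i)) ∧
    ∀ M : Subgroup G, IsCoatom M → ∃ i g, M = cj g (f i)

theorem Thirteen.stmt {G : Type*} [Group G] (h : Thirteen G) : Stmt G := by
  classical
  obtain ⟨f, h1, h2, h3⟩ := h
  have hf : Function.Injective f := fun i j hij => h2 (congrArg (fun M : Subgroup G => Nat.card M) hij)
  refine ⟨Finset.univ.image f, ?_, ?_, ?_, ?_⟩
  · rw [Finset.card_image_of_injective _ hf, Finset.card_univ, Fintype.card_fin]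
  · intro M hM
    obtain ⟨i, -, rfl⟩ := Finset.mem_image.1 hM
    exact h1 i
  · intro M₁ hM₁ M₂ hM₂ g hg
    obtain ⟨i, -, rfl⟩ := Finset.mem_image.1 hM₁
    obtain ⟨j, -, rfl⟩ := Finset.mem_image.1 hM₂
    have h4 : Nat.card (f j) = Nat.card (f i) := by
      rw [hg, Subgroup.card_map_of_injective (MulAut.conj g).injective]
    rw [h2 h4.symm]
  · intro M hM
    obtain ⟨i, g, h⟩ := h3 M hM
    exact ⟨f i, Finset.mem_image_of_mem f (Finset.mem_univ i), g, h⟩

theorem isCoatom_map {G H : Type*} [Group G] [Group H] (e : G ≃* H) {M : Subgroup G} (hM : IsCoatom M) :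
    IsCoatom (M.map e.toMonoidHom) := by
  have h := (OrderIso.isCoatom_iff (MulEquiv.mapSubgroup e) M).2 hM
  exact h

theorem Thirteen.map {G H : Type*} [Group G] [Group H] (e : G ≃* H) (h : Thirteen G) : Thirteen H := by
  obtain ⟨f, h1, h2, h3⟩ := h
  refine ⟨fun i => (f i).map e.toMonoidHom, fun i => isCoatom_map e (h1 i), ?_, ?_⟩
  · intro i j hij
    apply h2
    simp only at hij
    rw [Subgroup.card_map_of_injective e.injective, Subgroup.card_map_of_injective e.injective] at hij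
    exact hij
  · intro M hM
    obtain ⟨i, g, h⟩ := h3 (M.map e.symm.toMonoidHom) (isCoatom_map e.symm hM)
    refine ⟨i, e g, ?_⟩
    have h4 : M = (M.map e.symm.toMonoidHom).map e.toMonoidHom := by
      rw [Subgroup.map_map]
      convert (Subgroup.map_id M).symm
      ext x
      simp
    rw [h4, h]
    simp only [cj]
    rw [Subgroup.map_map, Subgroup.map_map]
    congr 1
    ext x
    show e (g * x * g⁻¹) = e g * e x * (e g)⁻¹
    rw [map_mul, map_mul, map_inv]

/-- from the group `Spor.J4` to every finite simple group of Janko-four type -/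
theorem stmt_of (h : Thirteen 𝒢) {G : Type*} [Group G] [Finite G] [IsSimpleGroup G] (hJ : IsOfJankoFourType G) :
    Stmt G := by
  obtain ⟨e⟩ := Cfsg.Agent.H859.Iso.exists_iso hJ
  exact (h.map e).stmt

/-- the orders of the eight local maximal subgroups -/
def c8 : Fin 8 → ℕ := ![21799895040, 501397585920, 10239344640, 660602880, 319440, 812, 444, 602]

/-- **the final assembly** -/
theorem thirteen (R : Rows) (T : OrderTable.{0}) (hS : Known.{0}) (H : St81)
    (f8 : Fin 8 → Subgroup 𝒢) (h1 : ∀ i, IsCoatom (f8 i)) (h2 : ∀ i, Nat.card (f8 i) = c8 i)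
    (h3 : ∀ M : Subgroup 𝒢, IsCoatom M → Good geo M → ∃ i g, M = cj g (f8 i))
    (hgood : ∀ M : Subgroup 𝒢, IsCoatom M → ∀ Q₀ : Subgroup 𝒢, Q₀ ≠ ⊥ → IsPGroup 2 Q₀ → Q₀ ≤ M →
      M ≤ normalizer (Q₀ : Set 𝒢) → Good geo M)
    (hodd : ∀ M : Subgroup 𝒢, IsCoatom M → ∀ p : ℕ, p.Prime → p ≠ 2 → ∀ Q₀ : Subgroup 𝒢, Q₀ ≠ ⊥ → IsPGroup p Q₀ →
      Q₀ ≤ M → M ≤ normalizer (Q₀ : Set 𝒢) → ∃ i g, M = cj g (f8 i)) : Thirteen 𝒢 := by
  obtain ⟨f5, k1, k2, k3⟩ := five R T hS H
  let F : Fin (8 + 5) → Subgroup 𝒢 := Fin.append f8 f5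
  have hl : ∀ i : Fin 8, F (Fin.castAdd 5 i) = f8 i := fun i => Fin.append_left _ _ i
  have hr : ∀ i : Fin 5, F (Fin.natAdd 8 i) = f5 i := fun i => Fin.append_right _ _ i
  have a1 : ∀ i : Fin (8 + 5), IsCoatom (F i) := by
    intro i
    induction i using Fin.addCases with
    | left i => rw [hl]; exact h1 i
    | right i => rw [hr]; exact k1 i
  have a2 : ∀ i : Fin (8 + 5), Nat.card (F i) = Fin.append c8 c5 i := by
    intro i
    induction i using Fin.addCases with
    | left i => rw [hl, Fin.append_left]; exact h2 i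
    | right i => rw [hr, Fin.append_right]; exact k2 i
  have a3 : Function.Injective (Fin.append c8 c5) := by decide +kernel
  refine ⟨F, a1, ?_, ?_⟩
  · intro i j hij
    have h4 : Nat.card (F i) = Nat.card (F j) := hij
    rw [a2 i, a2 j] at h4
    exact a3 h4
  · intro M hM
    by_cases hloc : NonLoc M
    · obtain ⟨i, g, h⟩ := k3 M hM hloc
      exact ⟨Fin.natAdd 8 i, g, h.trans (congrArg (cj g) (hr i).symm)⟩
    · obtain ⟨i, g, h⟩ : ∃ i g, M = cj g (f8 i) := by
        unfold NonLoc at hloc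
        push Not at hloc
        obtain ⟨p, hp, Q, hQM, hQ, hn, hQb⟩ := hloc
        by_cases hp2 : p = 2
        · subst hp2
          exact h3 M hM (hgood M hM Q hQb hQ hQM hn)
        · exact hodd M hM p hp hp2 Q hQb hQ hQM hn
      exact ⟨Fin.castAdd 5 i, g, h.trans (congrArg (cj g) (hl i).symm)⟩

end Cfsg.Agent.H854.JM
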