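import Cfsg.Agent.H854.JM.NonLocal
import Cfsg.Agent.S3035

/-!
# The centralizers of the elements of prime order of a group of Janko-four type: `Cents G` (helper854)
-/

set_option autoImplicit false

open Cfsg Subgroup

namespace Cfsg.Agent.H854.JM.NonLocal

open Cfsg.Agent.OrdDiv Cfsg.Agent.H866 Cfsg.Agent.H866.J4Ord Cfsg.Agent.H866.J4Min
open Cfsg.Agent.S3035 (card_sl)

universe u

theorem exists_mul {G : Type*} [Group G] {Q J C : Subgroup G} (h : IsInternalDirectProduct Q J C) :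
    ∀ c ∈ C, ∃ q ∈ Q, ∃ j ∈ J, c = q * j := by
  obtain ⟨h1, h2, h3, h4, h5⟩ := h
  intro c hc
  rw [← h5, Subgroup.sup_eq_closure] at hc
  induction hc using Subgroup.closure_induction with
  | mem x hx =>
    rcases hx with hx | hx
    · exact ⟨x, hx, 1, J.one_mem, by rw [mul_one]⟩
    · exact ⟨1, Q.one_mem, x, hx, by rw [one_mul]⟩
  | one => exact ⟨1, Q.one_mem, 1, J.one_mem, by rw [one_mul]⟩
  | mul x y _ _ ihx ihy =>
    obtain ⟨q, hq, j, hj, rfl⟩ := ihx
    obtain ⟨q', hq', j', hj', rfl⟩ := ihy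
    refine ⟨q * q', Q.mul_mem hq hq', j * j', J.mul_mem hj hj', ?_⟩
    have h7 := h3 q' hq' j hj
    calc q * j * (q' * j') = q * (j * q') * j' := by group
      _ = q * (q' * j) * j' := by rw [h7]
      _ = q * q' * (j * j') := by group
  | inv x _ ih =>
    obtain ⟨q, hq, j, hj, rfl⟩ := ih
    refine ⟨q⁻¹, Q.inv_mem hq, j⁻¹, J.inv_mem hj, ?_⟩
    have h7 := h3 q⁻¹ (Q.inv_mem hq) j⁻¹ (J.inv_mem hj)
    rw [h7, mul_inv_rev]

/-- in an internal direct product `C = Q × J` with `Q` abelian a simple nonabelian subgroup is in `J` -/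
theorem le_of_direct {G : Type*} [Group G] {Q J C B : Subgroup G} (h : IsInternalDirectProduct Q J C)
    (hQ : ∀ a ∈ Q, ∀ b ∈ Q, a * b = b * a) (hB : B ≤ C) [IsSimpleGroup B] (hna : ¬ ∀ a b : B, a * b = b * a) :
    B ≤ J := by
  have h6 := exists_mul h
  obtain ⟨h1, h2, h3, h4, h5⟩ := h
  -- commutators are in `J`
  have h7 : ∀ c ∈ C, ∀ d ∈ C, c * d * c⁻¹ * d⁻¹ ∈ J := by
    intro c hc d hd
    obtain ⟨q, hq, j, hj, rfl⟩ := h6 c hc
    obtain ⟨r, hr, k, hk, rfl⟩ := h6 d hd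
    have e1 := h3 q hq j hj
    have e2 := h3 r hr k hk
    have e3 := h3 q hq k hk
    have e4 := h3 r hr j hj
    have e5 := hQ q hq r hr
    have h8 : q * j * (r * k) = r * k * (q * j) * (j⁻¹ * k⁻¹ * j * k) := by
      calc q * j * (r * k) = q * (j * r) * k := by group
        _ = q * (r * j) * k := by rw [e4]
        _ = (q * r) * (j * k) := by group
        _ = (r * q) * (j * k) := by rw [e5]
        _ = r * (q * k) * (j * (j⁻¹ * k⁻¹ * j * k)) := by group
        _ = r * (k * q) * (j * (j⁻¹ * k⁻¹ * j * k)) := by rw [e3]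
        _ = r * k * (q * j) * (j⁻¹ * k⁻¹ * j * k) := by group
    have h9 : q * j * (r * k) * (q * j)⁻¹ * (r * k)⁻¹ =
        (r * k * (q * j)) * (j⁻¹ * k⁻¹ * j * k) * (r * k * (q * j))⁻¹ := by
      rw [h8]
      group
    rw [h9]
    have hJn : ∀ c ∈ C, ∀ x ∈ J, c * x * c⁻¹ ∈ J := by
      intro c hc x hx
      obtain ⟨q, hq, j, hj, rfl⟩ := h6 c hc
      have h10 : q * j * x * (q * j)⁻¹ = j * x * j⁻¹ := by
        have h11 := h3 q hq (j * x * j⁻¹) (J.mul_mem (J.mul_mem hj hx) (J.inv_mem hj))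
        calc q * j * x * (q * j)⁻¹ = q * (j * x * j⁻¹) * q⁻¹ := by group
          _ = (j * x * j⁻¹) * q * q⁻¹ := by rw [h11]
          _ = j * x * j⁻¹ := by group
      rw [h10]
      exact J.mul_mem (J.mul_mem hj hx) (J.inv_mem hj)
    exact hJn _ (C.mul_mem (C.mul_mem (h1 hr) (h2 hk)) (C.mul_mem (h1 hq) (h2 hj))) _
      (J.mul_mem (J.mul_mem (J.mul_mem (J.inv_mem hj) (J.inv_mem hk)) hj) hk)
  -- the simple group
  have h8 : (J.subgroupOf B).Normal := by
    refine ⟨fun x hx g => ?_⟩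
    rw [mem_subgroupOf] at hx ⊢
    have h9 := h7 g (hB g.2) x (hB x.2)
    have h10 := J.mul_mem h9 hx
    have h11 : (g : G) * x * (g : G)⁻¹ * (x : G)⁻¹ * x = ((g * x * g⁻¹ : B) : G) := by
      push_cast
      group
    rwa [h11] at h10
  rcases h8.eq_bot_or_eq_top with h9 | h9
  · exfalso
    apply hna
    intro a b
    have h10 : (a * b * a⁻¹ * b⁻¹ : B) ∈ J.subgroupOf B := by
      rw [mem_subgroupOf]
      exact h7 a (hB a.2) b (hB b.2)
    rw [h9, Subgroup.mem_bot] at h10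
    exact mul_inv_eq_one.1 (by rw [mul_inv_rev, ← mul_assoc]; exact h10)
  · exact subgroupOf_eq_top.1 h9

theorem card_direct {G : Type*} [Group G] [Finite G] {Q J C : Subgroup G} (h : IsInternalDirectProduct Q J C) :
    Nat.card C = Nat.card Q * Nat.card J := by
  have h6 := exists_mul h
  obtain ⟨h1, h2, h3, h4, h5⟩ := h
  refine Nat.dvd_antisymm ?_ (card_mul_dvd h1 h2 h3 h4)
  let f : Q × J →* C := MonoidHom.noncommCoprod (Subgroup.inclusion h1) (Subgroup.inclusion h2)
    (fun a b => Subtype.ext (h3 a a.2 b b.2))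
  have hf : Function.Surjective f := by
    rintro ⟨c, hc⟩
    obtain ⟨q, hq, j, hj, rfl⟩ := h6 c hc
    exact ⟨(⟨q, hq⟩, ⟨j, hj⟩), rfl⟩
  have h7 := Subgroup.card_dvd_of_surjective f hf
  rwa [Nat.card_prod] at h7

/-- the nonsplit extension `2^3.L_3(2)` contains no simple group of order 168 -/
theorem no_168 {G : Type*} [Group G] [Finite G] {J B : Subgroup G} (hBJ : B ≤ J) [IsSimpleGroup B]
    (hB : Nat.card B = 168) {E : Subgroup J} [E.Normal] (hE : Nat.card E = 8)
    (hJE : Nonempty (J ⧸ E ≃* Matrix.SpecialLinearGroup (Fin 3) (ZMod 2)))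
    (hno : ∀ K : Subgroup J, ¬ E.IsComplement' K) : False := by
  have hJ : Nat.card J = 8 * 168 := by
    rw [Subgroup.card_eq_card_quotient_mul_card_subgroup E, hE, Nat.card_congr hJE.some.toEquiv, card_sl, mul_comm]
  have e : (B.subgroupOf J) ≃* B := Subgroup.subgroupOfEquivOfLe hBJ
  have hK : Nat.card (B.subgroupOf J) = 168 := by rw [Nat.card_congr e.toEquiv, hB]
  have hs : IsSimpleGroup (B.subgroupOf J) := e.isSimpleGroup_congr.2 inferInstance
  refine hno (B.subgroupOf J) (Subgroup.isComplement'_of_card_mul_and_disjoint (by rw [hE, hK, hJ]) ?_)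
  rw [disjoint_iff]
  have hn : (E.subgroupOf (B.subgroupOf J)).Normal := inferInstance
  rcases hn.eq_bot_or_eq_top with h | h
  · rw [Subgroup.subgroupOf_eq_bot] at h
    exact h.eq_bot
  · rw [Subgroup.subgroupOf_eq_top] at h
    have h1 := Subgroup.card_dvd_of_le h
    rw [hE, hK] at h1
    norm_num at h1

/-- conjugates of subgroups of prime order `p`, `p ^ 2 ∤ |G|` -/
theorem conj_of_prime {G : Type*} [Group G] [Finite G] (hG : Nat.card G = nJ) {p : ℕ} [Fact p.Prime]
    (hp : ¬ p ^ 2 ∣ nJ) {P Q : Subgroup G} (hP : Nat.card P = p) (hQ : Nat.card Q = p) :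
    ∃ g : G, Q = P.map (MulAut.conj g).toMonoidHom := by
  obtain ⟨S1, hS1⟩ := J4OddEnd.exists_sylow_eq hG (p := p) (n := 1) hp (P := Q) (by rw [hQ, pow_one])
  obtain ⟨S2, hS2⟩ := J4OddEnd.exists_sylow_eq hG (p := p) (n := 1) hp (P := P) (by rw [hP, pow_one])
  obtain ⟨g, hg⟩ := MulAction.exists_smul_eq G S2 S1
  exact ⟨g, by rw [← hS1, ← hg, Sylow.coe_subgroup_smul, hS2]; rfl⟩

theorem cents {G : Type u} [Group G] [Finite G] [IsSimpleGroup G] (T : OrderTable.{u}) (hS : Known.{u})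
    (hG : ¬ IsMulCommutative G) (hJ : IsOfJankoFourType G) : Cents G := by
  have F := J4Facts.facts T hS hG hJ
  have f5 : Fact (Nat.Prime 5) := ⟨by norm_num⟩
  obtain ⟨z, hz⟩ := id hJ
  have hC5 : 5 ∣ Nat.card (centralizer ({z} : Set G)) := by
    rw [(H821.J4MaxB.facts hz).card_cent]
    norm_num
  obtain ⟨y, hy⟩ := exists_prime_orderOf_dvd_card' (G := centralizer ({z} : Set G)) 5 hC5
  have hY : Nat.card (Subgroup.zpowers (y : G)) = 5 := by rw [Nat.card_zpowers, Subgroup.orderOf_coe, hy]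
  have hYC : Subgroup.zpowers (y : G) ≤ centralizer ({z} : Set G) := Subgroup.zpowers_le.2 y.2
  have hYab : ∀ a ∈ Subgroup.zpowers (y : G), ∀ b ∈ Subgroup.zpowers (y : G), a * b = b * a := by
    intro a ha b hb
    obtain ⟨i, rfl⟩ := Subgroup.mem_zpowers_iff.1 ha
    obtain ⟨j, rfl⟩ := Subgroup.mem_zpowers_iff.1 hb
    rw [← zpow_add, ← zpow_add, add_comm]
  obtain ⟨-, ⟨J, hdir, E, hEn, hE2, hE8, hJE, hno⟩, -, -⟩ := S5572.result hG z hz _ hY hYC
  have hJc : Nat.card J = 8 * 168 := by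
    rw [Subgroup.card_eq_card_quotient_mul_card_subgroup E, hE8, Nat.card_congr hJE.some.toEquiv, card_sl, mul_comm]
  have hconj := fun (Q : Subgroup G) (hQ : Nat.card Q = 5) =>
    conj_of_prime F.card (p := 5) (by norm_num [nJ]) hY hQ
  refine { dvd := F.card, c5 := ?_, c7 := ?_, cp := ?_, no := ?_ }
  · intro Q hQ
    obtain ⟨g, rfl⟩ := hconj Q hQ
    rw [J4OddEnd.map_conj_cent, Subgroup.card_map_of_injective (MulAut.conj g).injective, card_direct hdir, hY, hJc]
  · intro Q hQ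
    obtain ⟨h1, h2⟩ := F.n7 Q hQ
    omega
  · intro p hp Q hQ
    have hpp : p.Prime ∧ ¬ p ^ 2 ∣ nJ := by
      simp only [List.mem_cons, List.not_mem_nil, or_false] at hp
      rcases hp with rfl | rfl | rfl | rfl | rfl <;> exact ⟨by norm_num, by norm_num [nJ]⟩
    have : Fact p.Prime := ⟨hpp.1⟩
    obtain ⟨U, hU⟩ := J4OddEnd.exists_sylow_eq F.card (p := p) (n := 1) hpp.2 (P := Q) (by rw [hQ, pow_one])
    obtain ⟨s1, s2, s3, s4, s5⟩ := S5577.result hG hJ
    have key : centralizer ((U : Subgroup G) : Set G) = (U : Subgroup G) := by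
      simp only [List.mem_cons, List.not_mem_nil, or_false] at hp
      rcases hp with rfl | rfl | rfl | rfl | rfl
      · exact (s1 U).1
      · exact (s2 U).1
      · exact (s3 U).1
      · exact (s4 U).1
      · exact (s5 U).1
    rw [← hU, key, hU, hQ]
  · intro A B hA hB sB hc
    obtain ⟨x, hx⟩ := exists_prime_orderOf_dvd_card' (G := A) 5 (by rw [hA]; norm_num)
    have hX : Nat.card (Subgroup.zpowers (x : G)) = 5 := by rw [Nat.card_zpowers, Subgroup.orderOf_coe, hx]
    obtain ⟨g, hg⟩ := hconj _ hX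
    -- conjugate back
    have hg' : (Subgroup.zpowers (x : G)).map (MulAut.conj g⁻¹).toMonoidHom = Subgroup.zpowers (y : G) := by
      rw [hg, Subgroup.map_map]
      have : ((MulAut.conj g⁻¹).toMonoidHom.comp (MulAut.conj g).toMonoidHom : G →* G) = MonoidHom.id G := by
        ext w
        show g⁻¹ * (g * w * g⁻¹) * g⁻¹⁻¹ = w
        group
      rw [this, Subgroup.map_id]
    have hBC : B.map (MulAut.conj g⁻¹).toMonoidHom ≤ centralizer ((Subgroup.zpowers (y : G) : Subgroup G) : Set G) := by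
      rw [← hg', J4OddEnd.map_conj_cent]
      refine Subgroup.map_mono fun b hb => mem_centralizer_iff.2 fun a ha => ?_
      exact hc a ((Subgroup.zpowers_le.2 x.2 : Subgroup.zpowers (x : G) ≤ A) ha) b hb
    have e : B ≃* B.map (MulAut.conj g⁻¹).toMonoidHom := B.equivMapOfInjective _ (MulAut.conj g⁻¹).injective
    have sB' : IsSimpleGroup (B.map (MulAut.conj g⁻¹).toMonoidHom) := e.symm.isSimpleGroup_congr.2 sB
    have hB' : Nat.card (B.map (MulAut.conj g⁻¹).toMonoidHom) = 168 := by rw [← Nat.card_congr e.toEquiv, hB]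
    have hnaB : ¬ ∀ a b : B.map (MulAut.conj g⁻¹).toMonoidHom, a * b = b * a := by
      intro h
      exact Classification.SimpleIndex.not_comm_of_not_prime (G := B.map (MulAut.conj g⁻¹).toMonoidHom)
        (by rw [hB']; norm_num) ⟨⟨h⟩⟩
    exact no_168 (le_of_direct hdir hYab hBC hnaB) hB' hE8 hJE hno

end Cfsg.Agent.H854.JM.NonLocal
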