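import Cfsg.Agent.H854.JM.Cents

/-!
# S5580, Part III: `PSL₂(q)` with `7 ∣ q - 1` and `PSL₂(31)` are not subgroups of `J4` (helper854)
-/

set_option autoImplicit false

open Cfsg Subgroup

namespace Cfsg.Agent.H854.JM.NonLocal

open Cfsg.Agent.OrdDiv Cfsg.Agent.H866 Cfsg.Agent.H866.J4Ord Cfsg.Agent.H866.J4Min
open Matrix

universe u

section sl

variable {F : Type*} [Field F]

/-- `diag(a, a⁻¹)` -/
def dg (a : Fˣ) : SpecialLinearGroup (Fin 2) F := ⟨!![(a : F), 0; 0, ((a⁻¹ : Fˣ) : F)], by simp [Matrix.det_fin_two]⟩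

/-- `[0, 1; -1, 0]` -/
def ww : SpecialLinearGroup (Fin 2) F := ⟨!![0, 1; -1, 0], by simp [Matrix.det_fin_two]⟩

/-- `[1, b; 0, 1]` -/
def uu (b : F) : SpecialLinearGroup (Fin 2) F := ⟨!![1, b; 0, 1], by simp [Matrix.det_fin_two]⟩

theorem mulv (x y : SpecialLinearGroup (Fin 2) F) : (x * y).1 = x.1 * y.1 := rfl

theorem dg_mul (a b : Fˣ) : dg (a * b) = dg a * dg b := by
  apply Subtype.ext
  rw [mulv]
  simp only [dg, Matrix.mul_fin_two]
  simp [mul_comm]

theorem dg_one : dg (1 : Fˣ) = 1 := by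
  apply Subtype.ext
  change !![((1 : Fˣ) : F), 0; 0, (((1 : Fˣ)⁻¹ : Fˣ) : F)] = (1 : Matrix (Fin 2) (Fin 2) F)
  rw [Matrix.one_fin_two]
  simp

/-- `dg` as a homomorphism -/
def dgHom : Fˣ →* SpecialLinearGroup (Fin 2) F where
  toFun := dg
  map_one' := dg_one
  map_mul' := dg_mul

theorem uu_add (a b : F) : uu (a + b) = uu a * uu b := by
  apply Subtype.ext
  rw [mulv]
  simp only [uu, Matrix.mul_fin_two]
  simp [add_comm]

theorem uu_zero : uu (0 : F) = 1 := by
  apply Subtype.ext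
  change !![(1 : F), 0; 0, 1] = (1 : Matrix (Fin 2) (Fin 2) F)
  rw [Matrix.one_fin_two]

theorem uu_pow (b : F) (n : ℕ) : uu b ^ n = uu (n * b) := by
  induction n with
  | zero => rw [pow_zero, Nat.cast_zero, zero_mul, uu_zero]
  | succ n ih =>
    rw [pow_succ, ih, ← uu_add]
    congr 1
    push_cast
    ring

theorem ww_dg (a : Fˣ) : ww * dg a = dg a⁻¹ * ww := by
  apply Subtype.ext
  rw [mulv, mulv]
  simp only [dg, ww, Matrix.mul_fin_two]
  simp

theorem dg_uu (a : Fˣ) (b : F) : dg a * uu b = uu ((a : F) ^ 2 * b) * dg a := by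
  apply Subtype.ext
  rw [mulv, mulv]
  simp only [dg, uu, Matrix.mul_fin_two]
  have h : (a : F) * b = (a : F) ^ 2 * b * ((a⁻¹ : Fˣ) : F) := by
    rw [Units.val_inv_eq_inv_val]
    field_simp
  simp only [mul_one, mul_zero, zero_mul, add_zero, zero_add, one_mul]
  rw [← h]

/-- a central element of `SL₂` is diagonal, with equal entries -/
theorem center_apply {x : SpecialLinearGroup (Fin 2) F} (hx : x ∈ center (SpecialLinearGroup (Fin 2) F)) :
    x.1 0 1 = 0 ∧ x.1 0 0 = x.1 1 1 := by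
  rw [Matrix.SpecialLinearGroup.mem_center_iff] at hx
  obtain ⟨r, -, h⟩ := hx
  rw [← h]
  simp

end sl

/-- `g` normalizes `P`, `g ^ k` centralizes `P`, `k` is prime to `|N(P) : C(P)|` -/
theorem mem_cent_of_coprime {G : Type*} [Group G] [Finite G] {P : Subgroup G} {m k : ℕ}
    (hm : Nat.card (normalizer (P : Set G)) = m * Nat.card (centralizer (P : Set G))) {g : G}
    (hg : g ∈ normalizer (P : Set G)) (hk : g ^ k ∈ centralizer (P : Set G)) (hcop : k.Coprime m) :
    g ∈ centralizer (P : Set G) := by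
  let f := P.normalizerMonoidHom
  have hker : f.ker = (centralizer (P : Set G)).subgroupOf (normalizer (P : Set G)) := P.normalizerMonoidHom_ker
  have hle : centralizer (P : Set G) ≤ normalizer (P : Set G) := Subgroup.centralizer_le_normalizer _
  have h1 : f.ker.index = m := by
    have h2 := f.ker.card_mul_index
    have h3 : Nat.card f.ker = Nat.card (centralizer (P : Set G)) := by
      rw [hker]
      exact Nat.card_congr (Subgroup.subgroupOfEquivOfLe hle).toEquiv
    rw [h3, hm, mul_comm] at h2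
    exact Nat.eq_of_mul_eq_mul_right Nat.card_pos h2
  rw [Subgroup.index_ker] at h1
  have h2 : (f.rangeRestrict ⟨g, hg⟩) ^ m = 1 := by
    rw [← h1]
    exact pow_card_eq_one'
  have h3 : (f.rangeRestrict ⟨g, hg⟩) ^ k = 1 := by
    rw [← map_pow]
    apply Subtype.ext
    show f (⟨g, hg⟩ ^ k) = 1
    rw [← MonoidHom.mem_ker, hker, mem_subgroupOf]
    exact hk
  have h4 : f.rangeRestrict ⟨g, hg⟩ = 1 := by
    rw [← orderOf_eq_one_iff]
    exact Nat.eq_one_of_dvd_coprimes hcop (orderOf_dvd_of_pow_eq_one h3) (orderOf_dvd_of_pow_eq_one h2)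
  have h5 : (⟨g, hg⟩ : normalizer (P : Set G)) ∈ f.ker := by
    rw [MonoidHom.mem_ker]
    exact congrArg Subtype.val h4
  rw [hker, mem_subgroupOf] at h5
  exact h5

variable {G : Type u} [Group G] [Finite G]

/-- elements of order 7 are not real, so `PSL₂(q)` with `7 ∣ q - 1` is not involved -/
theorem no_seven (h7 : ∀ S : Subgroup G, Nat.card S = 7 →
      Nat.card (normalizer (S : Set G)) = 3 * Nat.card (centralizer (S : Set G))) {F : Type*} [Field F] [Fintype F]
    (hF : 7 ∣ Fintype.card F - 1) (φ : SpecialLinearGroup (Fin 2) F →* G) (hφ : φ.ker ≤ center _) : False := by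
  have f7 : Fact (Nat.Prime 7) := ⟨by norm_num⟩
  obtain ⟨a, ha⟩ := exists_prime_orderOf_dvd_card' (G := Fˣ) 7 (by rw [Nat.card_units, Nat.card_eq_fintype_card]; exact hF)
  have ha2 : a⁻¹ ≠ a := by
    intro h
    have h1 : a ^ 2 = 1 := by
      rw [pow_two]
      nth_rewrite 1 [← h]
      exact inv_mul_cancel a
    have h2 := orderOf_dvd_of_pow_eq_one h1
    rw [ha] at h2
    norm_num at h2
  have hd : dg a ∉ center (SpecialLinearGroup (Fin 2) F) := by
    intro h
    have h1 : (a : F) = ((a⁻¹ : Fˣ) : F) := (center_apply h).2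
    exact ha2 (Units.ext h1).symm
  have hx : orderOf (φ (dg a)) = 7 := by
    refine orderOf_eq_prime ?_ fun h => hd (hφ h)
    rw [← map_pow]
    have h1 : (dg a) ^ 7 = 1 := by
      have := map_pow (dgHom (F := F)) a 7
      rw [← ha, pow_orderOf_eq_one, map_one, ha] at this
      exact this.symm
    rw [h1, map_one]
  have hP : Nat.card (Subgroup.zpowers (φ (dg a))) = 7 := by rw [Nat.card_zpowers, hx]
  have hg : φ ww * φ (dg a) * (φ ww)⁻¹ = (φ (dg a))⁻¹ := by
    rw [← map_mul, ww_dg, map_mul, mul_inv_cancel_right, ← map_inv]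
    congr 1
    exact map_inv (dgHom (F := F)) a
  have hgN : φ ww ∈ normalizer ((Subgroup.zpowers (φ (dg a)) : Subgroup G) : Set G) := by
    rw [Subgroup.mem_normalizer_iff_map_conj_eq, MonoidHom.map_zpowers]
    show Subgroup.zpowers (φ ww * φ (dg a) * (φ ww)⁻¹) = _
    rw [hg, Subgroup.zpowers_inv]
  have hg2 : (φ ww) ^ 2 ∈ centralizer ((Subgroup.zpowers (φ (dg a)) : Subgroup G) : Set G) := by
    rw [Subgroup.mem_centralizer_iff]
    intro y hy
    obtain ⟨n, rfl⟩ := Subgroup.mem_zpowers_iff.1 hy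
    have h1 : Commute ((φ ww) ^ 2) (φ (dg a)) := by
      have h2 : (φ ww) ^ 2 * φ (dg a) * ((φ ww) ^ 2)⁻¹ = φ (dg a) := by
        have h3 : (φ ww) ^ 2 * φ (dg a) * ((φ ww) ^ 2)⁻¹ =
            φ ww * (φ ww * φ (dg a) * (φ ww)⁻¹) * (φ ww)⁻¹ := by
          rw [pow_two]
          group
        rw [h3, hg]
        have h4 : φ ww * (φ (dg a))⁻¹ * (φ ww)⁻¹ = (φ ww * φ (dg a) * (φ ww)⁻¹)⁻¹ := by group
        rw [h4, hg, inv_inv]
      exact mul_inv_eq_iff_eq_mul.1 h2
    exact ((h1.zpow_right n).eq).symm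
  have h1 := mem_cent_of_coprime (h7 _ hP) hgN hg2 (by norm_num)
  rw [Subgroup.mem_centralizer_iff] at h1
  have h2 := h1 _ (Subgroup.mem_zpowers _)
  rw [← h2, mul_inv_cancel_right, eq_comm] at hg
  have h3 : (φ (dg a)) ^ 2 = 1 := by
    rw [pow_two]
    nth_rewrite 1 [← hg]
    exact inv_mul_cancel _
  have h4 := orderOf_dvd_of_pow_eq_one h3
  rw [hx] at h4
  norm_num at h4

/-- `|N(31) : C(31)| = 10`, so `PSL₂(31)` is not involved -/
theorem no_thirtyone (h31 : ∀ S : Subgroup G, Nat.card S = 31 →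
      Nat.card (normalizer (S : Set G)) = 10 * Nat.card (centralizer (S : Set G))) {F : Type*} [Field F] [Fintype F]
    (hF : Fintype.card F = 31) (φ : SpecialLinearGroup (Fin 2) F →* G) (hφ : φ.ker ≤ center _) : False := by
  have f31 : Fact (Nat.Prime 31) := ⟨by norm_num⟩
  have f3 : Fact (Nat.Prime 3) := ⟨by norm_num⟩
  obtain ⟨a, ha⟩ := exists_prime_orderOf_dvd_card' (G := Fˣ) 3 (by
    rw [Nat.card_units, Nat.card_eq_fintype_card, hF]; norm_num)
  have ha2 : (a : F) ^ 2 ≠ 1 := by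
    intro h
    have h1 : a ^ 2 = 1 := Units.ext (by push_cast; exact h)
    have h2 := orderOf_dvd_of_pow_eq_one h1
    rw [ha] at h2
    norm_num at h2
  have hu : ∀ b : F, b ≠ 0 → uu b ∉ center (SpecialLinearGroup (Fin 2) F) := by
    intro b hb h
    exact hb (center_apply h).1
  have hx : orderOf (φ (uu 1)) = 31 := by
    refine orderOf_eq_prime ?_ fun h => hu 1 one_ne_zero (hφ h)
    rw [← map_pow, uu_pow, ← hF, mul_one, Nat.cast_card_eq_zero, uu_zero, map_one]
  have hP : Nat.card (Subgroup.zpowers (φ (uu 1))) = 31 := by rw [Nat.card_zpowers, hx]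
  have hg : φ (dg a) * φ (uu 1) * (φ (dg a))⁻¹ = φ (uu ((a : F) ^ 2)) := by
    rw [← map_mul, dg_uu, map_mul, mul_inv_cancel_right, mul_one]
  have hgN : φ (dg a) ∈ normalizer ((Subgroup.zpowers (φ (uu 1)) : Subgroup G) : Set G) := by
    rw [Subgroup.mem_normalizer_iff_map_conj_eq]
    have h1 : (Subgroup.zpowers (φ (uu 1))).map (MulAut.conj (φ (dg a))).toMonoidHom ≤ Subgroup.zpowers (φ (uu 1)) := by
      rw [MonoidHom.map_zpowers, Subgroup.zpowers_le]
      show φ (dg a) * φ (uu 1) * (φ (dg a))⁻¹ ∈ _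
      rw [hg]
      let e := ZMod.ringEquivOfPrime F (p := 31) (by norm_num) hF
      have h2 : ((e.symm ((a : F) ^ 2)).val : F) = (a : F) ^ 2 := by
        rw [← map_natCast e, ZMod.natCast_zmod_val, RingEquiv.apply_symm_apply]
      have h3 : uu ((a : F) ^ 2) = (uu (1 : F)) ^ (e.symm ((a : F) ^ 2)).val := by
        rw [uu_pow, h2, mul_one]
      rw [h3, map_pow]
      exact Subgroup.pow_mem _ (Subgroup.mem_zpowers _) _
    refine Subgroup.eq_of_le_of_card_ge h1 ?_
    rw [Subgroup.card_map_of_injective (MulAut.conj _).injective]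
  have hg3 : (φ (dg a)) ^ 3 ∈ centralizer ((Subgroup.zpowers (φ (uu 1)) : Subgroup G) : Set G) := by
    have h1 : (dg a) ^ 3 = 1 := by
      have := map_pow (dgHom (F := F)) a 3
      rw [← ha, pow_orderOf_eq_one, map_one, ha] at this
      exact this.symm
    rw [← map_pow, h1, map_one]
    exact one_mem _
  have h1 := mem_cent_of_coprime (h31 _ hP) hgN hg3 (by norm_num)
  rw [Subgroup.mem_centralizer_iff] at h1
  have h2 := h1 _ (Subgroup.mem_zpowers _)
  rw [← h2, mul_inv_cancel_right] at hg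
  have h3 : uu ((a : F) ^ 2 + -1) ∈ φ.ker := by
    rw [MonoidHom.mem_ker, uu_add, map_mul, ← hg, ← map_mul, ← uu_add, add_neg_cancel, uu_zero, map_one]
  refine hu _ ?_ (hφ h3)
  rw [← sub_eq_add_neg]
  exact sub_ne_zero.2 ha2

/-- the homomorphism given by an isomorphism of a subgroup with `PSL₂(q)` -/
theorem exists_hom {S : Subgroup G} {F : Type*} [Field F]
    (h : Nonempty (S ≃* ProjectiveSpecialLinearGroup (Fin 2) F)) :
    ∃ φ : SpecialLinearGroup (Fin 2) F →* G, φ.ker ≤ center _ := by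
  obtain ⟨e⟩ := h
  refine ⟨(S.subtype.comp e.symm.toMonoidHom).comp (QuotientGroup.mk' _), ?_⟩
  intro x hx
  rw [MonoidHom.mem_ker] at hx
  have h1 : e.symm (QuotientGroup.mk' _ x) = 1 := Subtype.ext hx
  rw [map_eq_one_iff _ e.symm.injective] at h1
  rwa [QuotientGroup.mk'_apply, QuotientGroup.eq_one_iff] at h1

end Cfsg.Agent.H854.JM.NonLocal
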