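import Cfsg.Agent.H854.JM.Std

/-!
# S5580: the non-local maximal subgroups, assembly (helper854)

`Rows` : the statements of the rows of Part III; `five` : a maximal subgroup without normal `p`-subgroups is conjugate to one
of five.
-/

set_option autoImplicit false

open Cfsg Subgroup

namespace Cfsg.Agent.H854.JM

open Cfsg.Agent.OrdDiv Cfsg.Agent.H866 Cfsg.Agent.H866.J4Ord Cfsg.Agent.H866.J4Min
open Cfsg.Agent.H854.JM.NonLocal
open Cfsg.Agent.H860.JM (NL Excl OneCl cj)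

/-- the group `Spor.J4` -/
local notation "𝒢" => Cfsg.Spor.J4

/-- the rows of Part III -/
structure Rows : Prop where
  a5 : Excl ↥(alternatingGroup (Fin 5))
  a6 : Excl ↥(alternatingGroup (Fin 6))
  a7 : Excl ↥(alternatingGroup (Fin 7))
  a8 : Excl ↥(alternatingGroup (Fin 8))
  l27 : ∀ {F : Type} [Field F] [Fintype F], Fintype.card F = 7 → Excl (Matrix.ProjectiveSpecialLinearGroup (Fin 2) F)
  l211 : ∀ {F : Type} [Field F] [Fintype F], Fintype.card F = 11 → Excl (Matrix.ProjectiveSpecialLinearGroup (Fin 2) F)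
  l34 : ∀ {F : Type} [Field F] [Fintype F], Fintype.card F = 4 → Excl (Matrix.ProjectiveSpecialLinearGroup (Fin 3) F)
  l52 : ∀ {F : Type} [Field F] [Fintype F], Fintype.card F = 2 → Excl (Matrix.ProjectiveSpecialLinearGroup (Fin 5) F)
  m11 : Excl ↥Spor.M11
  m12 : Excl ↥Spor.M12
  m23 : Excl ↥Spor.M23
  m24 : Excl ↥Cfsg.M24
  m22 : OneCl ↥Spor.M22
  l223 : ∀ {F : Type} [Field F] [Fintype F], Fintype.card F = 23 → OneCl (Matrix.ProjectiveSpecialLinearGroup (Fin 2) F)
  l232 : ∀ {F : Type} [Field F] [Fintype F], Fintype.card F = 32 → OneCl (Matrix.ProjectiveSpecialLinearGroup (Fin 2) F)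
  u33 : ∀ {F : Type} [Field F] [Fintype F], Fintype.card F = 9 → OneCl (PSU 3 F 3)
  u311 : ∀ {F : Type} [Field F] [Fintype F], Fintype.card F = 121 → OneCl (PSU 3 F 11)

/-- `M` has no nontrivial normal `p`-subgroup -/
def NonLoc (M : Subgroup 𝒢) : Prop :=
  ∀ p : ℕ, p.Prime → ∀ R : Subgroup 𝒢, R ≤ M → IsPGroup p R → M ≤ normalizer (R : Set 𝒢) → R = ⊥

/-- the orders of the five -/
def c5 : Fin 5 → ℕ := ![141831360, 887040, 163680, 12144, 6048]

/-- **the non-local maximal subgroups are in five classes** -/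
theorem five (R : Rows) (T : OrderTable.{0}) (hS : Known.{0}) (H : St81) :
    ∃ f : Fin 5 → Subgroup 𝒢, (∀ i, IsCoatom (f i)) ∧ (∀ i, Nat.card (f i) = c5 i) ∧
      ∀ M : Subgroup 𝒢, IsCoatom M → NonLoc M → ∃ i g, M = cj g (f i) := by
  obtain ⟨-, -, -, F1, i1, j1, hF1, -⟩ := H.1
  obtain ⟨-, -, -, F3, i3, j3, hF3, -⟩ := H.2.2.1
  obtain ⟨-, -, F5, i5, j5, hF5, -⟩ := H.2.2.2.2
  have f23 : Fact (Nat.Prime 23) := ⟨by norm_num⟩
  obtain ⟨M1, S1, n1, e1, k1⟩ := std_u311 H hF1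
  obtain ⟨M2, S2, n2, e2, k2⟩ := std_m22 H
  obtain ⟨M3, S3, n3, e3, k3⟩ := std_l32 H hF3
  obtain ⟨M4, S4, n4, e4, k4⟩ := std_l23 H (ZMod.card 23)
  obtain ⟨M5, S5, n5, e5, k5⟩ := std_u33 H hF5
  refine ⟨![M1, M2, M3, M4, M5], ?_, ?_, ?_⟩
  · intro i
    fin_cases i
    · exact n1.coatom
    · exact n2.coatom
    · exact n3.coatom
    · exact n4.coatom
    · exact n5.coatom
  · intro i
    fin_cases i
    · exact k1
    · exact k2
    · exact k3
    · exact k4
    · exact k5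
  · intro M hM hl
    obtain ⟨S, hn, hL⟩ := nl_list' T hS hM hl
    cases hL with
    | alt n hn' e =>
      rcases hn' with rfl | rfl | rfl | rfl
      · exact (R.a5 M S hn e).elim
      · exact (R.a6 M S hn e).elim
      · exact (R.a7 M S hn e).elim
      · exact (R.a8 M S hn e).elim
    | psl n q h F i j hq e =>
      simp only [List.mem_cons, Prod.mk.injEq, List.not_mem_nil, or_false] at h
      rcases h with ⟨rfl, rfl⟩ | ⟨rfl, rfl⟩ | ⟨rfl, rfl⟩ | ⟨rfl, rfl⟩ | ⟨rfl, rfl⟩ | ⟨rfl, rfl⟩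
      · exact (R.l27 hq M S hn e).elim
      · exact (R.l211 hq M S hn e).elim
      · refine ⟨3, R.l223 (ZMod.card 23) M4 S4 M S n4 hn e4 ?_⟩
        exact ⟨e.some.trans (LieClassical.SmallIso.pslCongr (Fin 2)
          (FiniteField.ringEquivOfCardEq (K := F) (K' := ZMod 23) (by rw [hq, ZMod.card])))⟩
      · refine ⟨2, R.l232 hF3 M3 S3 M S n3 hn e3 ?_⟩
        exact ⟨e.some.trans (LieClassical.SmallIso.pslCongr (Fin 2)
          (FiniteField.ringEquivOfCardEq (K := F) (K' := F3) (by rw [hq, hF3])))⟩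
      · exact (R.l34 hq M S hn e).elim
      · exact (R.l52 hq M S hn e).elim
    | psu q h F i j hq e =>
      rcases h with rfl | rfl
      · refine ⟨4, R.u33 hF5 M5 S5 M S n5 hn e5 ?_⟩
        exact ⟨e.some.trans (SporadicStructure.PsuMatch.psuCongr
          (FiniteField.ringEquivOfCardEq (K := F) (K' := F5) (by rw [hq, hF5]; norm_num)) 3 3)⟩
      · refine ⟨0, R.u311 hF1 M1 S1 M S n1 hn e1 ?_⟩
        exact ⟨e.some.trans (SporadicStructure.PsuMatch.psuCongr
          (FiniteField.ringEquivOfCardEq (K := F) (K' := F1) (by rw [hq, hF1]; norm_num)) 3 11)⟩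
    | m11 e => exact (R.m11 M S hn e).elim
    | m12 e => exact (R.m12 M S hn e).elim
    | m22 e => exact ⟨1, R.m22 M2 S2 M S n2 hn e2 e⟩
    | m23 e => exact (R.m23 M S hn e).elim
    | m24 e => exact (R.m24 M S hn e).elim

end Cfsg.Agent.H854.JM
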