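import Cfsg.Agent.H854.JM.Excl
import Cfsg.Agent.S0494
import Cfsg.Agent.S0495
import Cfsg.Agent.S0497
import Cfsg.Agent.S0256

/-!
# S5580, Part III: the list of the possible socles of the non-local maximal subgroups of `J4` (helper854)

* `InList S` : `S` is one of `A5 A6 A7 A8 L2(7) L2(11) L2(23) L2(32) L3(4) L5(2) U3(3) U3(11) M11 M12 M22 M23 M24`;
* `nl_list` : for a maximal subgroup `M` of `Spor.J4` without nontrivial normal `p`-subgroups there is `S` with `NL M S` and
  `InList S`.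
-/

set_option autoImplicit false

open Cfsg Subgroup

namespace Cfsg.Agent.H854.JM

open Cfsg.Agent.OrdDiv Cfsg.Agent.H866 Cfsg.Agent.H866.J4Ord Cfsg.Agent.H866.J4Min
open Cfsg.Agent.H854.JM.NonLocal
open Cfsg.Agent.H860.JM (NL)

/-- the group `Spor.J4` -/
local notation "𝒢" => Cfsg.Spor.J4

/-- the possible socles -/
inductive InList (S : Type) [Group S] : Prop
  | alt (n : ℕ) (hn : n = 5 ∨ n = 6 ∨ n = 7 ∨ n = 8) (e : Nonempty (S ≃* ↥(alternatingGroup (Fin n)))) : InList S
  | psl (n q : ℕ) (h : (n, q) ∈ [(2, 7), (2, 11), (2, 23), (2, 32), (3, 4), (5, 2)]) (F : Type) (i : Field F)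
      (j : Fintype F) (hq : Fintype.card F = q) (e : Nonempty (S ≃* Matrix.ProjectiveSpecialLinearGroup (Fin n) F)) :
      InList S
  | psu (q : ℕ) (h : q = 3 ∨ q = 11) (F : Type) (i : Field F) (j : Fintype F) (hq : Fintype.card F = q ^ 2)
      (e : Nonempty (S ≃* PSU 3 F q)) : InList S
  | m11 (e : Spor.IsoM11 S) : InList S
  | m12 (e : Spor.IsoM12 S) : InList S
  | m22 (e : Spor.IsoM22 S) : InList S
  | m23 (e : Spor.IsoM23 S) : InList S
  | m24 (e : Spor.IsoM24 S) : InList S

/-- the list, for a simple subgroup of a group of Janko-four type -/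
theorem inList_of (T : OrderTable.{0}) (hS : Known.{0}) {G : Type} [Group G] [Finite G] (hd : Nat.card G = nJ)
    (h7 : ∀ S : Subgroup G, Nat.card S = 7 →
      Nat.card (normalizer (S : Set G)) = 3 * Nat.card (centralizer (S : Set G)))
    (h31 : ∀ S : Subgroup G, Nat.card S = 31 →
      Nat.card (normalizer (S : Set G)) = 10 * Nat.card (centralizer (S : Set G)))
    {S : Subgroup G} [IsSimpleGroup S] (hna : ¬ ∀ a b : S, a * b = b * a) (hne : S ≠ ⊤) : InList S := by
  obtain ⟨x, hx, hr, hc⟩ := exists_name T (hS S) hna ((Subgroup.card_subgroup_dvd_card S).trans hd.dvd)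
  have f7 : Fact (Nat.Prime 7) := ⟨by norm_num⟩
  have f2 : Fact (Nat.Prime 2) := ⟨by norm_num⟩
  have k5 : Nat.card S = 60 → InList S := fun h => .alt 5 (by simp) (S0494.result h)
  have k6 : Nat.card S = 360 → InList S := fun h => .alt 6 (by simp) (S0497.result h)
  have k7 : Nat.card S = 168 → InList S := fun h => .psl 2 7 (by simp) (ZMod 7) inferInstance inferInstance
    (ZMod.card 7) (S0495.result h (ZMod.card 7))
  have seven : ∀ q : ℕ, 7 ∣ q - 1 → Real (.psl 2 q) S → False := by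
    rintro q hq ⟨F, i, j, hF, h⟩
    obtain ⟨φ, hφ⟩ := exists_hom h
    exact no_seven h7 (F := F) (by rw [hF]; exact hq) φ hφ
  have keep : ∀ n q : ℕ, (n, q) ∈ [(2, 7), (2, 11), (2, 23), (2, 32), (3, 4), (5, 2)] → Real (.psl n q) S →
      InList S := by
    rintro n q hq ⟨F, i, j, hF, h⟩
    exact .psl n q hq F i j hF h
  simp only [names, List.mem_cons, List.not_mem_nil, or_false] at hx
  rcases hx with rfl | rfl | rfl | rfl | rfl | rfl | rfl | rfl | rfl | rfl | rfl | rfl | rfl | rfl | rfl | rfl | rfl |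
    rfl | rfl | rfl | rfl | rfl | rfl | rfl | rfl | rfl | rfl
  · exact k5 hc
  · exact k6 hc
  · exact .alt 7 (by simp) hr
  · exact .alt 8 (by simp) hr
  · exact k7 hc
  · obtain ⟨F, i, j, hF, ⟨e⟩⟩ := hr
    obtain ⟨e'⟩ := S0256.result hF
    exact .alt 8 (by simp) ⟨e.trans e'⟩
  · exact keep 5 2 (by simp) hr
  · exact k5 hc
  · exact keep 3 4 (by simp) hr
  · exact (seven 8 (by norm_num) hr).elim
  · exact keep 2 32 (by simp) hr
  · exact k6 hc
  · exact k5 hc
  · exact keep 2 7 (by simp) hr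
  · exact keep 2 11 (by simp) hr
  · exact keep 2 23 (by simp) hr
  · exact (seven 29 (by norm_num) hr).elim
  · obtain ⟨F, i, j, hF, h⟩ := hr
    obtain ⟨φ, hφ⟩ := exists_hom h
    exact (no_thirtyone h31 (F := F) hF φ hφ).elim
  · exact (seven 43 (by norm_num) hr).elim
  · obtain ⟨F, i, j, hF, h⟩ := hr
    exact .psu 3 (by simp) F i j hF h
  · obtain ⟨F, i, j, hF, h⟩ := hr
    exact .psu 11 (by simp) F i j hF h
  · exact .m11 hr
  · exact .m12 hr
  · exact .m22 hr
  · exact .m23 hr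
  · exact .m24 hr
  · exact (hne (Subgroup.eq_top_of_card_eq S (hc.trans hd.symm))).elim

/-- the normalizers of the subgroups of order 31 -/
theorem card_n31 {G : Type} [Group G] [Finite G] [IsSimpleGroup G] (hcG : Nat.card G = nJ)
    (hG : ¬ IsMulCommutative G) (hJ : IsOfJankoFourType G) (S : Subgroup G) (hS : Nat.card S = 31) :
      Nat.card (normalizer (S : Set G)) = 10 * Nat.card (centralizer (S : Set G)) := by
  have : Fact (Nat.Prime 31) := ⟨by norm_num⟩
  obtain ⟨U, hU⟩ := J4OddEnd.exists_sylow_eq hcG (p := 31) (n := 1) (by norm_num [nJ]) (P := S) (by rw [hS, pow_one])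
  obtain ⟨h1, h2⟩ := (S5577.result hG hJ).2.2.1 U
  rw [← hU, h2, h1, hU, hS]

theorem janko : IsOfJankoFourType 𝒢 := H337.isOfJankoFourType_of_isoJ4 ⟨MulEquiv.refl _⟩

instance : Finite 𝒢 := H858.FixJ4.facts.1

theorem card_J : Nat.card 𝒢 = nJ := H858.FixJ4.facts.2.1

theorem simple_J : IsSimpleGroup 𝒢 := S1703.result.1

theorem noncomm_J : ¬ IsMulCommutative 𝒢 := by
  have := simple_J
  exact Classification.SimpleIndex.not_comm_of_not_prime (by rw [card_J]; norm_num [nJ])

/-- the facts on the centralizers of the elements of prime order -/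
theorem cents_J (T : OrderTable.{0}) (hS : Known.{0}) : Cents 𝒢 := by
  have := simple_J
  exact cents T hS noncomm_J janko

/-- **Part III, the list.** -/
theorem nl_list' (T : OrderTable.{0}) (hS : Known.{0}) {M : Subgroup 𝒢} (hM : IsCoatom M)
    (hloc : ∀ p : ℕ, p.Prime → ∀ R : Subgroup 𝒢, R ≤ M → IsPGroup p R → M ≤ normalizer (R : Set 𝒢) → R = ⊥) :
    ∃ S : Subgroup 𝒢, NL M S ∧ InList S := by
  have hs := simple_J
  obtain ⟨S, h1, h2, h3, h4, h5, -⟩ := (cents_J T hS).exists_simple T hS noncomm_J hM hloc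
  have h7 : ∀ S : Subgroup 𝒢, Nat.card S = 7 →
      Nat.card (normalizer (S : Set 𝒢)) = 3 * Nat.card (centralizer (S : Set 𝒢)) := fun S hS' =>
    ((J4Facts.facts T hS noncomm_J janko).n7 S hS').2
  refine ⟨S, ⟨hM, h1, h2, h3, h4, h5⟩, inList_of T hS card_J h7 (fun S hS' => card_n31 card_J noncomm_J janko S hS')
    (fun h => h4 ⟨⟨h⟩⟩) ?_⟩
  rintro rfl
  exact hM.1 (top_le_iff.1 h1)

end Cfsg.Agent.H854.JM
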