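import Cfsg.Agent.H860.JM.Defs
import Cfsg.Agent.H866.J4Facts
import Cfsg.Agent.H337.JankoOfIso
import Cfsg.Agent.OrdDiv.Table
import Cfsg.Agent.S0494
import Cfsg.Agent.S5572
import Cfsg.Agent.S5577

/-!
# S5580, Part III: the non-local maximal subgroups of `J4` are almost simple (helper854)

`nl_exists`: if a maximal subgroup `M` of `Spor.J4` has no nontrivial normal `p`-subgroup (for all primes `p`), then
`M = N(S)` with `S` nonabelian simple and `C(S) = 1` (`NL M S`), with the order in the list `J4Ord.ords`.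
-/

set_option autoImplicit false

open Cfsg Subgroup

namespace Cfsg.Agent.H854.JM.NonLocal

open Cfsg.Agent.OrdDiv Cfsg.Agent.H866 Cfsg.Agent.H866.J4Ord Cfsg.Agent.H866.J4Min

universe u

/-! ### minimal normal subgroups of a group whose order divides `|J4|` -/

/-- the proof of `J4Min.min_abstract` for a given minimal normal subgroup -/
theorem min_of (T : OrderTable.{u}) (hS : Known.{u}) {H : Type u} [Group H] [Finite H]
    (hd : Nat.card H ∣ nJ) (R : Subgroup H) [R.Normal] (hR : R ≠ ⊥)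
    (hmin : ∀ M : Subgroup H, M.Normal → M ≤ R → M = ⊥ ∨ M = R) :
      ((∃ r : ℕ, r.Prime ∧ IsElementaryAbelian r R) ∨
        (IsSimpleGroup R ∧ (¬ ∀ a b : R, a * b = b * a) ∧ Nat.card R ∈ ords)) := by
  obtain ⟨X, m, hXR, hXs, hm, ⟨e⟩⟩ := Lib.MinNormal.exists_mulEquiv_pi R hR hmin
  by_cases hab : ∀ a b : X, a * b = b * a
  · left
    have h1 : ∀ a b : R, a * b = b * a := by
      intro a b
      apply e.injective
      rw [map_mul, map_mul]
      funext i
      exact hab _ _
    obtain ⟨r, hr, -, hx⟩ := Lib.MinNormalNonabelian.abelian_structure R hR hmin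
      (fun x hx y hy => congrArg Subtype.val (h1 ⟨x, hx⟩ ⟨y, hy⟩))
    exact ⟨r, hr, ⟨⟨fun a b => h1 a b⟩⟩, hx⟩
  · right
    have h1 : Nat.card X ∣ nJ := (Subgroup.card_subgroup_dvd_card X).trans hd
    have h2 : Nat.card X ∈ ords := card_mem_ords T (hS X) hab h1
    have h3 : Nat.card R = Nat.card X ^ m := by
      rw [Nat.card_congr e.toEquiv, Nat.card_fun, Nat.card_eq_fintype_card (α := Fin m), Fintype.card_fin]
    have h4 : m = 1 := by
      by_contra hne
      apply ords_sq _ h2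
      have h5 : Nat.card X ^ 2 ∣ Nat.card R := by
        rw [h3]
        exact pow_dvd_pow _ (by omega)
      rw [← pow_two]
      exact (h5.trans (Subgroup.card_subgroup_dvd_card R)).trans hd
    subst h4
    have e2 : R ≃* X := e.trans (MulEquiv.funUnique (Fin 1) X)
    refine ⟨?_, ?_, ?_⟩
    · exact e2.isSimpleGroup_congr.2 hXs
    · intro h
      apply hab
      intro a b
      apply e2.symm.injective
      rw [map_mul, map_mul]
      exact h _ _
    · rw [h3, pow_one]
      exact h2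

/-- a nontrivial normal subgroup `C` of `M` contains a minimal normal subgroup of `M`, in ambient form -/
theorem exists_min_le (T : OrderTable.{u}) (hS : Known.{u}) {G : Type u} [Group G] [Finite G]
    (hd : Nat.card G ∣ nJ) (M C : Subgroup G) (hCM : C ≤ M) (hC : C ≠ ⊥) (hn : M ≤ normalizer (C : Set G)) :
    ∃ R : Subgroup G, R ≤ C ∧ R ≠ ⊥ ∧ M ≤ normalizer (R : Set G) ∧
      ((∃ r : ℕ, r.Prime ∧ IsElementaryAbelian r R) ∨
        (IsSimpleGroup R ∧ (¬ ∀ a b : R, a * b = b * a) ∧ Nat.card R ∈ ords)) := by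
  have hC' : (C.subgroupOf M) ≠ ⊥ := by
    intro h
    apply hC
    rw [← Subgroup.map_subgroupOf_eq_of_le hCM, h, Subgroup.map_bot]
  have hCn : (C.subgroupOf M).Normal := ⟨fun y hy g => by
    rw [mem_subgroupOf] at hy ⊢
    exact ((mem_normalizer_iff.1 (hn g.2)) _).1 hy⟩
  obtain ⟨R, hRn, hRC, hR, hmin⟩ := Lib.SubnormalJoin.exists_minimal_normal_le (C.subgroupOf M) hCn hC'
  have h := min_of T hS ((Subgroup.card_subgroup_dvd_card M).trans hd) R hR hmin
  have e : R ≃* R.map M.subtype := R.equivMapOfInjective _ M.subtype_injective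
  refine ⟨R.map M.subtype, ?_, ?_, ?_, ?_⟩
  · rintro _ ⟨r, hr, rfl⟩
    exact mem_subgroupOf.1 (hRC hr)
  · intro h0
    apply hR
    rwa [Subgroup.map_eq_bot_iff_of_injective _ M.subtype_injective] at h0
  · intro x hx
    rw [mem_normalizer_iff]
    intro y
    constructor
    · rintro ⟨r, hr, rfl⟩
      exact ⟨⟨x, hx⟩ * r * ⟨x, hx⟩⁻¹, hRn.conj_mem r hr _, rfl⟩
    · rintro ⟨r, hr, he⟩
      refine ⟨⟨x, hx⟩⁻¹ * r * ⟨x, hx⟩, ?_, ?_⟩
      · have := hRn.conj_mem r hr (⟨x, hx⟩⁻¹ : M)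
        rwa [inv_inv] at this
      · have h1 : (r : G) = x * y * x⁻¹ := he
        change x⁻¹ * (r : G) * x = y
        rw [h1]
        group
  · rcases h with ⟨r, hr, h⟩ | ⟨h1, h2, h3⟩
    · left
      refine ⟨r, hr, ⟨⟨?_⟩⟩, ?_⟩
      · intro a b
        obtain ⟨a, rfl⟩ := e.surjective a
        obtain ⟨b, rfl⟩ := e.surjective b
        rw [← map_mul, ← map_mul, h.1.is_comm.comm a b]
      · rintro _ ⟨x, hx, rfl⟩
        rw [← map_pow, h.2 x hx, map_one]
    · right
      refine ⟨e.symm.isSimpleGroup_congr.2 h1, ?_, ?_⟩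
      · intro h
        apply h2
        intro a b
        apply e.injective
        rw [map_mul, map_mul]
        exact h _ _
      · rwa [← Nat.card_congr e.toEquiv]

/-! ### two commuting simple subgroups -/

/-- `A` and `P` commute and meet trivially: `|A| |P|` divides `|C|` -/
theorem card_mul_dvd {G : Type*} [Group G] [Finite G] {A P C : Subgroup G} (hA : A ≤ C) (hP : P ≤ C)
    (hc : ∀ a ∈ A, ∀ b ∈ P, a * b = b * a) (h : A ⊓ P = ⊥) : Nat.card A * Nat.card P ∣ Nat.card C := by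
  let f : A × P →* C := MonoidHom.noncommCoprod (Subgroup.inclusion hA) (Subgroup.inclusion hP)
    (fun a b => Subtype.ext (hc a a.2 b b.2))
  have hf : Function.Injective f := by
    rw [injective_iff_map_eq_one]
    rintro ⟨a, b⟩ h1
    have h2 : (a : G) * (b : G) = 1 := congrArg Subtype.val h1
    have h3 : (a : G) = (b : G)⁻¹ := eq_inv_of_mul_eq_one_left h2
    have h4 : (a : G) ∈ A ⊓ P := ⟨a.2, h3 ▸ P.inv_mem b.2⟩
    rw [h, Subgroup.mem_bot] at h4
    have h5 : (b : G) = 1 := by rw [h4, one_mul] at h2; exact h2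
    exact Prod.ext (Subtype.ext h4) (Subtype.ext h5)
  have h1 := Subgroup.card_dvd_of_injective f hf
  rwa [Nat.card_prod] at h1

/-- a simple nonabelian group has no nontrivial abelian normal part: `S ⊓ C(S) = 1` -/
theorem inf_cent {G : Type*} [Group G] {S : Subgroup G} [IsSimpleGroup S] (hna : ¬ ∀ a b : S, a * b = b * a) :
    S ⊓ centralizer (S : Set G) = ⊥ := by
  have h : center S = ⊥ ∨ center S = ⊤ := IsSimpleGroup.eq_bot_or_eq_top_of_normal _ inferInstance
  rcases h with h | h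
  · rw [eq_bot_iff]
    rintro x ⟨hx, hc⟩
    have h1 : (⟨x, hx⟩ : S) ∈ center S := by
      rw [mem_center_iff]
      intro y
      exact Subtype.ext (mem_centralizer_iff.1 hc y y.2)
    rw [h, Subgroup.mem_bot] at h1
    rw [Subgroup.mem_bot]
    exact congrArg Subtype.val h1
  · exact absurd (fun a b => by
      have : b ∈ center S := h ▸ mem_top b
      exact mem_center_iff.1 this a) hna

/-! ### the facts on `J4` used here -/

/-- centralizers of the subgroups of prime order, and the structure of `C(5)` -/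
structure Cents (G : Type u) [Group G] [Finite G] : Prop where
  dvd : Nat.card G = nJ
  c5 : ∀ Q : Subgroup G, Nat.card Q = 5 → Nat.card (centralizer (Q : Set G)) = 6720
  c7 : ∀ Q : Subgroup G, Nat.card Q = 7 → Nat.card (centralizer (Q : Set G)) = 840
  cp : ∀ p ∈ [23, 29, 31, 37, 43], ∀ Q : Subgroup G, Nat.card Q = p → Nat.card (centralizer (Q : Set G)) = p
  no : ∀ A B : Subgroup G, Nat.card A = 60 → Nat.card B = 168 → IsSimpleGroup B →
    (∀ a ∈ A, ∀ b ∈ B, a * b = b * a) → False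

variable {G : Type u} [Group G] [Finite G]

/-- the order of a simple group commuting with a simple group -/
theorem Cents.step (F : Cents G) {A B : Subgroup G} (hA : Nat.card A ∈ ords) (hB : Nat.card B ∈ ords)
    (hc : ∀ a ∈ A, ∀ b ∈ B, a * b = b * a) (h : A ⊓ B = ⊥) :
    (5 ∣ Nat.card A ∧ Nat.card B = 168) ∨ (7 ∣ Nat.card A ∧ Nat.card B = 60) := by
  obtain ⟨p, hp, hpd⟩ := ords_fst _ hA
  have hpp : p.Prime := by
    simp only [List.mem_cons, List.not_mem_nil, or_false] at hp
    rcases hp with rfl | rfl | rfl | rfl | rfl | rfl | rfl <;> norm_num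
  have : Fact p.Prime := ⟨hpp⟩
  obtain ⟨x, hx⟩ := exists_prime_orderOf_dvd_card' (G := A) p hpd
  have hP : Nat.card (Subgroup.zpowers (x : G)) = p := by rw [Nat.card_zpowers, Subgroup.orderOf_coe, hx]
  have hPA : Subgroup.zpowers (x : G) ≤ A := Subgroup.zpowers_le.2 x.2
  have h1 : B ≤ centralizer ((Subgroup.zpowers (x : G) : Subgroup G) : Set G) := by
    intro b hb
    rw [mem_centralizer_iff]
    intro a ha
    exact hc a (hPA ha) b hb
  have h2 : Subgroup.zpowers (x : G) ≤ centralizer ((Subgroup.zpowers (x : G) : Subgroup G) : Set G) := by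
    intro b hb
    rw [mem_centralizer_iff]
    intro a ha
    obtain ⟨i, rfl⟩ := Subgroup.mem_zpowers_iff.1 ha
    obtain ⟨j, rfl⟩ := Subgroup.mem_zpowers_iff.1 hb
    rw [← zpow_add, ← zpow_add, add_comm]
  have h3 : B ⊓ Subgroup.zpowers (x : G) = ⊥ := by
    rw [eq_bot_iff, ← h, inf_comm A B]
    exact inf_le_inf_left _ hPA
  have h4 := card_mul_dvd h1 h2 (fun b hb a ha => (hc a (hPA ha) b hb).symm) h3
  rw [hP] at h4
  simp only [List.mem_cons, List.not_mem_nil, or_false] at hp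
  have key : ∀ n ∈ ords, (∀ m ∈ [23, 29, 31, 37, 43], ¬ n * m ∣ m) ∧ (n * 5 ∣ 6720 → n = 168) ∧
      (n * 7 ∣ 840 → n = 60) := by decide +kernel
  obtain ⟨k1, k2, k3⟩ := key _ hB
  rcases hp with rfl | rfl | rfl | rfl | rfl | rfl | rfl
  · exact Or.inl ⟨hpd, k2 (F.c5 _ hP ▸ h4)⟩
  · exact Or.inr ⟨hpd, k3 (F.c7 _ hP ▸ h4)⟩
  · exact absurd (F.cp 23 (by simp) _ hP ▸ h4) (k1 23 (by simp))
  · exact absurd (F.cp 29 (by simp) _ hP ▸ h4) (k1 29 (by simp))
  · exact absurd (F.cp 31 (by simp) _ hP ▸ h4) (k1 31 (by simp))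
  · exact absurd (F.cp 37 (by simp) _ hP ▸ h4) (k1 37 (by simp))
  · exact absurd (F.cp 43 (by simp) _ hP ▸ h4) (k1 43 (by simp))

/-- there are no two commuting nonabelian simple subgroups -/
theorem Cents.no_two (F : Cents G) {A B : Subgroup G} (hA : Nat.card A ∈ ords) (hB : Nat.card B ∈ ords)
    (sA : IsSimpleGroup A) (sB : IsSimpleGroup B)
    (hc : ∀ a ∈ A, ∀ b ∈ B, a * b = b * a) (h : A ⊓ B = ⊥) : False := by
  have h1 := F.step hA hB hc h
  have h2 := F.step hB hA (fun a ha b hb => (hc b hb a ha).symm) (by rw [inf_comm]; exact h)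
  rcases h1 with ⟨h3, h4⟩ | ⟨h3, h4⟩
  · rcases h2 with ⟨h5, h6⟩ | ⟨h5, h6⟩
    · rw [h4] at h5
      norm_num at h5
    · exact F.no A B h6 h4 sB hc
  · rcases h2 with ⟨h5, h6⟩ | ⟨h5, h6⟩
    · exact F.no B A h4 h6 sA (fun b hb a ha => (hc a ha b hb).symm)
    · rw [h4] at h5
      norm_num at h5

/-- **A maximal subgroup without normal `p`-subgroups is almost simple with `C(S) = 1`.** -/
theorem Cents.exists_simple (F : Cents G) (T : OrderTable.{u}) (hS : Known.{u}) [IsSimpleGroup G]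
    (hG : ¬ IsMulCommutative G) {M : Subgroup G} (hM : IsCoatom M)
    (hloc : ∀ p : ℕ, p.Prime → ∀ R : Subgroup G, R ≤ M → IsPGroup p R → M ≤ normalizer (R : Set G) → R = ⊥) :
    ∃ S : Subgroup G, S ≤ M ∧ M ≤ normalizer (S : Set G) ∧ IsSimpleGroup S ∧ (¬ IsMulCommutative S) ∧
      centralizer (S : Set G) = ⊥ ∧ Nat.card S ∈ ords := by
  have hd : Nat.card G ∣ nJ := F.dvd.dvd
  have hMb : M ≠ ⊥ := by
    rintro rfl
    apply hG
    have h1 : ∀ x : G, x ≠ 1 → Subgroup.zpowers x = ⊤ := fun x hx => hM.2 _ (by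
      rw [bot_lt_iff_ne_bot]
      intro h
      exact hx (by rwa [Subgroup.zpowers_eq_bot] at h))
    refine ⟨⟨fun a b => ?_⟩⟩
    by_cases ha : a = 1
    · rw [ha, one_mul, mul_one]
    · have h2 : b ∈ Subgroup.zpowers a := h1 a ha ▸ mem_top b
      obtain ⟨j, rfl⟩ := Subgroup.mem_zpowers_iff.1 h2
      rw [← zpow_one_add, ← zpow_add_one, add_comm]
  have hp : ∀ r : ℕ, r.Prime → ∀ R : Subgroup G, R ≤ M → R ≠ ⊥ → M ≤ normalizer (R : Set G) →
      ¬ IsElementaryAbelian r R := by
    intro r hr R hRM hR hn he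
    exact hR (hloc r hr R hRM (fun x => ⟨1, by rw [pow_one]; exact Subtype.ext (he.2 x x.2)⟩) hn)
  obtain ⟨S, hSM, hSb, hSn, h⟩ := exists_min_le T hS hd M M le_rfl hMb Subgroup.le_normalizer
  rcases h with ⟨r, hr, he⟩ | ⟨sS, hna, hord⟩
  · exact absurd he (hp r hr S hSM hSb hSn)
  have hnot : ∀ R : Subgroup G, R ≤ M → R ≠ ⊥ → M ≤ normalizer (R : Set G) → M = normalizer (R : Set G) := by
    intro R hRM hR hn
    refine le_antisymm hn ?_
    by_contra hlt
    have h1 : M < normalizer (R : Set G) := lt_of_le_of_ne hn fun h => hlt (h ▸ le_rfl)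
    have h2 := hM.2 _ h1
    have h3 : R.Normal := Subgroup.normalizer_eq_top_iff.1 h2
    rcases h3.eq_bot_or_eq_top with h4 | h4
    · exact hR h4
    · exact hM.1 (top_le_iff.1 (h4 ▸ hRM))
  have hMS := hnot S hSM hSb hSn
  refine ⟨S, hSM, hSn, sS, fun h => hna fun a b => h.is_comm.comm a b, ?_, hord⟩
  by_contra hC
  have hCM : centralizer (S : Set G) ≤ M := by
    rw [hMS]
    exact Subgroup.centralizer_le_normalizer _
  have hCn : M ≤ normalizer ((centralizer (S : Set G) : Subgroup G) : Set G) := by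
    intro x hx
    have hx1 := hSn hx
    rw [mem_normalizer_iff] at hx1 ⊢
    intro y
    constructor
    · intro hy
      rw [mem_centralizer_iff] at hy ⊢
      intro s hs
      have h1 := hy (x⁻¹ * s * x) (by
        have := (hx1 (x⁻¹ * s * x)).2
        apply this
        have h2 : x * (x⁻¹ * s * x) * x⁻¹ = s := by group
        rw [h2]
        exact hs)
      have h3 : s * (x * y * x⁻¹) = x * ((x⁻¹ * s * x) * y) * x⁻¹ := by group
      have h4 : x * y * x⁻¹ * s = x * (y * (x⁻¹ * s * x)) * x⁻¹ := by group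
      rw [h3, h4, h1]
    · intro hy
      rw [mem_centralizer_iff] at hy ⊢
      intro s hs
      have h1 := hy (x * s * x⁻¹) ((hx1 s).1 hs)
      have h3 : s * y = x⁻¹ * ((x * s * x⁻¹) * (x * y * x⁻¹)) * x := by group
      have h4 : y * s = x⁻¹ * ((x * y * x⁻¹) * (x * s * x⁻¹)) * x := by group
      rw [h3, h4, h1]
  obtain ⟨R, hRC, hR, hRn, h⟩ := exists_min_le T hS hd M _ hCM hC hCn
  rcases h with ⟨r, hr, he⟩ | ⟨sR, hna', hord'⟩
  · exact absurd he (hp r hr R (hRC.trans hCM) hR hRn)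
  refine F.no_two hord hord' sS sR (fun a ha b hb => mem_centralizer_iff.1 (hRC hb) a ha) ?_
  rw [eq_bot_iff, ← inf_cent hna]
  exact inf_le_inf_left _ hRC

end Cfsg.Agent.H854.JM.NonLocal
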