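import Cfsg.Agent.H854.JM.List
import Cfsg.Agent.H860.JM.Basic
import Cfsg.Agent.H397.ZAut
import Cfsg.Agent.H856.AutM22
import Cfsg.Agent.S0283
import Cfsg.Agent.LieClassical.SmallIso
import Cfsg.Agent.SporadicStructure.PsuMatch

/-!
# S5580: the five non-local maximal subgroups of S5581 with their socles and orders (helper854)
-/

set_option autoImplicit false

open Cfsg Subgroup

namespace Cfsg.Agent.H854.JM

open Cfsg.Agent.OrdDiv Cfsg.Agent.H866 Cfsg.Agent.H866.J4Ord Cfsg.Agent.H866.J4Min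
open Cfsg.Agent.H854.JM.NonLocal
open Cfsg.Agent.H860.JM (NL)

/-- the group `Spor.J4` -/
local notation "𝒢" => Cfsg.Spor.J4

/-- a maximal subgroup `M` of order `c` with socle isomorphic to `T` -/
def HasStd (T : Type) [Group T] (c : ℕ) : Prop :=
  ∃ M S : Subgroup 𝒢, NL M S ∧ Nonempty (S ≃* T) ∧ Nat.card M = c

/-- a maximal subgroup is the normalizer of every nontrivial normal subgroup -/
theorem eq_normalizer {M R : Subgroup 𝒢} (hM : IsCoatom M) (hRM : R ≤ M) (hR : R ≠ ⊥)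
    (hn : M ≤ normalizer (R : Set 𝒢)) : M = normalizer (R : Set 𝒢) := by
  have := simple_J
  refine le_antisymm hn ?_
  by_contra hlt
  have h1 : M < normalizer (R : Set 𝒢) := lt_of_le_of_ne hn fun h => hlt (h ▸ le_rfl)
  have h3 : R.Normal := Subgroup.normalizer_eq_top_iff.1 (hM.2 _ h1)
  rcases h3.eq_bot_or_eq_top with h4 | h4
  · exact hR h4
  · exact hM.1 (top_le_iff.1 (h4 ▸ hRM))

/-- the normalizer of a subgroup of order two has order divisible by `2 ^ 11` -/
theorem dvd_norm_two {R : Subgroup 𝒢} (hR : Nat.card R = 2) : 2 ^ 11 ∣ Nat.card (normalizer (R : Set 𝒢)) := by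
  have f2 : Fact (Nat.Prime 2) := ⟨by norm_num⟩
  obtain ⟨x, hx⟩ := exists_prime_orderOf_dvd_card' (G := R) 2 (by rw [hR])
  have hx1 : (x : 𝒢) ≠ 1 := by
    intro h
    rw [← Subgroup.orderOf_coe, h, orderOf_one] at hx
    norm_num at hx
  have hx2 : (x : 𝒢) * x = 1 := by
    rw [← pow_two, ← hx, ← Subgroup.orderOf_coe, pow_orderOf_eq_one]
  have hz : Subgroup.zpowers (x : 𝒢) = R := by
    refine Subgroup.eq_of_le_of_card_ge (Subgroup.zpowers_le.2 x.2) ?_
    rw [Nat.card_zpowers, Subgroup.orderOf_coe, hx, hR]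
  -- a conjugate of `EJ` contains `x`
  obtain ⟨g, hg⟩ : ∃ g : 𝒢, (x : 𝒢) ∈ H860.JM.cj g J4.Invol.EJ := by
    rcases H860.JM.invol hx1 hx2 with h | h
    · obtain ⟨g, hg⟩ := isConj_iff.1 h
      exact ⟨g, H860.JM.mem_cj.2 (by
        rw [← hg]
        have : g⁻¹ * (g * J4.Invol.s * g⁻¹) * g = J4.Invol.s := by group
        rw [this]
        exact H860.JM.s_mem)⟩
    · obtain ⟨g, hg⟩ := isConj_iff.1 h
      exact ⟨g, H860.JM.mem_cj.2 (by
        rw [← hg]
        have : g⁻¹ * (g * J4.Invol.d * g⁻¹) * g = J4.Invol.d := by group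
        rw [this]
        exact H860.JM.d_mem)⟩
  have hE : H860.JM.El (H860.JM.cj g J4.Invol.EJ) := H860.JM.f3.el _ ⟨g, rfl⟩
  have h1 : H860.JM.cj g J4.Invol.EJ ≤ normalizer (R : Set 𝒢) := by
    refine le_trans ?_ (Subgroup.centralizer_le_normalizer (R : Set 𝒢))
    intro y hy
    rw [mem_centralizer_iff]
    intro r hr
    rw [← hz] at hr
    obtain ⟨n, rfl⟩ := Subgroup.mem_zpowers_iff.1 hr
    exact ((show Commute y (x : 𝒢) from hE.comm y hy _ hg).zpow_right n).eq.symm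
  have h2 := Subgroup.card_dvd_of_le h1
  rwa [H860.JM.card_cj, H860.JM.card_EJ] at h2

/-- the normalizer of a subgroup of order five -/
theorem card_norm_five {R : Subgroup 𝒢} (hR : Nat.card R = 5) : Nat.card (normalizer (R : Set 𝒢)) = 26880 := by
  have := simple_J
  have f5 : Fact (Nat.Prime 5) := ⟨by norm_num⟩
  obtain ⟨z, hz⟩ := janko
  have hC5 : 5 ∣ Nat.card (centralizer ({z} : Set 𝒢)) := by
    rw [(H821.J4MaxB.facts hz).card_cent]
    norm_num
  obtain ⟨y, hy⟩ := exists_prime_orderOf_dvd_card' (G := centralizer ({z} : Set 𝒢)) 5 hC5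
  have hY : Nat.card (Subgroup.zpowers (y : 𝒢)) = 5 := by rw [Nat.card_zpowers, Subgroup.orderOf_coe, hy]
  have hYC : Subgroup.zpowers (y : 𝒢) ≤ centralizer ({z} : Set 𝒢) := Subgroup.zpowers_le.2 y.2
  obtain ⟨-, -, -, h4⟩ := S5572.result noncomm_J z hz _ hY hYC
  obtain ⟨g, rfl⟩ := conj_of_prime card_J (p := 5) (by norm_num [nJ]) hY hR
  have h5 : normalizer (((Subgroup.zpowers (y : 𝒢)).map (MulAut.conj g).toMonoidHom : Subgroup 𝒢) : Set 𝒢) =
      (normalizer ((Subgroup.zpowers (y : 𝒢) : Subgroup 𝒢) : Set 𝒢)).map (MulAut.conj g).toMonoidHom := by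
    rw [Subgroup.map_equiv_normalizer_eq]
  rw [h5, Subgroup.card_map_of_injective (MulAut.conj g).injective, h4]
  norm_num

/-- `NL M K` from a normal nonabelian simple subgroup of index `m` -/
theorem nl_of {M K : Subgroup 𝒢} (hM : IsCoatom M) (hK : K ≤ M) (hn : M ≤ normalizer (K : Set 𝒢))
    (hs : IsSimpleGroup K) (hna : ¬ IsMulCommutative K) {m c : ℕ} (hm : m = 1 ∨ (m = 2 ∧ ¬ 2 ^ 11 ∣ m * c) ∨
      (m = 5 ∧ m * c ≠ 26880)) (hKc : Nat.card K = c) (hcard : Nat.card M = m * c) : NL M K := by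
  have hKb : K ≠ ⊥ := by
    rintro rfl
    exact hna ⟨⟨fun a b => Subsingleton.elim _ _⟩⟩
  have hMK := eq_normalizer hM hK hKb hn
  refine ⟨hM, hK, hn, hs, hna, ?_⟩
  have hCM : centralizer (K : Set 𝒢) ≤ M := by
    rw [hMK]
    exact Subgroup.centralizer_le_normalizer _
  have hd := card_mul_dvd (A := centralizer (K : Set 𝒢)) (P := K) hCM hK
    (fun a ha b hb => (mem_centralizer_iff.1 ha b hb).symm) (by
      rw [inf_comm]
      exact inf_cent fun h => hna ⟨⟨h⟩⟩)
  have hc0 : 0 < c := hKc ▸ Nat.card_pos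
  rw [hKc, hcard] at hd
  have hd' := Nat.dvd_of_mul_dvd_mul_right hc0 hd
  have hnC : M ≤ normalizer ((centralizer (K : Set 𝒢) : Subgroup 𝒢) : Set 𝒢) := by
    intro x hx
    have hx1 := hn hx
    rw [← H860.JM.cj_eq_iff] at hx1 ⊢
    rw [← H860.JM.centralizer_cj, hx1]
  by_contra hC
  have key := eq_normalizer hM hCM hC hnC
  have h1 : Nat.card (centralizer (K : Set 𝒢)) ≠ 1 := fun h => hC (Subgroup.card_eq_one.1 h)
  rcases hm with rfl | ⟨rfl, hm⟩ | ⟨rfl, hm⟩
  · exact h1 (Nat.dvd_one.1 hd')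
  · have h2 : Nat.card (centralizer (K : Set 𝒢)) = 2 := ((Nat.dvd_prime Nat.prime_two).1 hd').resolve_left h1
    apply hm
    rw [← hcard, key]
    exact dvd_norm_two h2
  · have h2 : Nat.card (centralizer (K : Set 𝒢)) = 5 :=
      ((Nat.dvd_prime (by norm_num : Nat.Prime 5)).1 hd').resolve_left h1
    apply hm
    rw [← hcard, key]
    exact card_norm_five h2

/-- from a normal subgroup of the group `M` -/
theorem std_of {T : Type} [Group T] (hT : IsSimpleGroup T) {M : Subgroup 𝒢} (hM : IsCoatom M) (K : Subgroup M)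
    (hKn : K.Normal) {m c : ℕ} (hi : K.index = m) (e : K ≃* T) (hTc : Nat.card T = c) (hcp : ¬ c.Prime)
    (hm : m = 1 ∨ (m = 2 ∧ ¬ 2 ^ 11 ∣ m * c) ∨ (m = 5 ∧ m * c ≠ 26880)) : HasStd T (m * c) := by
  let K' : Subgroup 𝒢 := K.map M.subtype
  have e' : K ≃* K' := K.equivMapOfInjective _ M.subtype_injective
  have hKc : Nat.card K = c := by rw [Nat.card_congr e.toEquiv, hTc]
  have hs : IsSimpleGroup K' := (e'.symm.trans e).isSimpleGroup_congr.2 hT
  have hKc' : Nat.card K' = c := by rw [← Nat.card_congr e'.toEquiv, hKc]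
  have hna : ¬ IsMulCommutative K' :=
    Classification.SimpleIndex.not_comm_of_not_prime (G := K') (by rw [hKc']; exact hcp)
  have hMc : Nat.card M = m * c := by
    rw [← K.card_mul_index, hi, hKc, mul_comm]
  refine ⟨M, K', nl_of hM (Subgroup.map_subtype_le _) ?_ hs hna hm hKc' hMc, ⟨e'.symm.trans e⟩, hMc⟩
  intro x hx
  rw [mem_normalizer_iff]
  intro y
  constructor
  · rintro ⟨r, hr, rfl⟩
    exact ⟨⟨x, hx⟩ * r * ⟨x, hx⟩⁻¹, hKn.conj_mem r hr _, rfl⟩
  · rintro ⟨r, hr, he⟩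
    refine ⟨⟨x, hx⟩⁻¹ * r * ⟨x, hx⟩, ?_, ?_⟩
    · have := hKn.conj_mem r hr (⟨x, hx⟩⁻¹ : M)
      rwa [inv_inv] at this
    · have h1 : (r : 𝒢) = x * y * x⁻¹ := he
      change x⁻¹ * (r : 𝒢) * x = y
      rw [h1]
      group

theorem card_psu {F : Type} [Field F] [Fintype F] {q : ℕ} (hF : Fintype.card F = q ^ 2) (hq : q ≠ 2)
    {K : Subgroup 𝒢} (e : K ≃* PSU 3 F q) : Nat.card (PSU 3 F q) = ordN (.psu 3 q) :=
  (psu_mem valid_lJ hF le_rfl (fun h => hq h.2) (by
    rw [← Nat.card_congr e.toEquiv, ← card_J]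
    exact Subgroup.card_subgroup_dvd_card K)).2

theorem card_psl {F : Type} [Field F] [Fintype F] (h4 : 4 ≤ Fintype.card F) {K : Subgroup 𝒢}
    (e : K ≃* Matrix.ProjectiveSpecialLinearGroup (Fin 2) F) :
    Nat.card (Matrix.ProjectiveSpecialLinearGroup (Fin 2) F) = ordN (.psl 2 (Fintype.card F)) :=
  (psl_mem valid_lJ le_rfl (fun _ => h4) (by
    rw [← Nat.card_congr e.toEquiv, ← card_J]
    exact Subgroup.card_subgroup_dvd_card K)).2

/-- the statement of S5581 for the group `Spor.J4` -/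
def St81 : Prop :=
    (∃ M : Subgroup 𝒢, IsCoatom M ∧ ∃ (K : Subgroup ↥M) (F : Type) (_ : Field F) (_ : Fintype F),
        Fintype.card F = 121 ∧ K.Normal ∧ K.index = 2 ∧ Nonempty (↥K ≃* Cfsg.PSU 3 F 11)) ∧
    (∃ M : Subgroup 𝒢, IsCoatom M ∧ Nonempty (↥M ≃* MulAut ↥Cfsg.Spor.M22)) ∧
    (∃ M : Subgroup 𝒢, IsCoatom M ∧ ∃ (K : Subgroup ↥M) (F : Type) (_ : Field F) (_ : Fintype F),
        Fintype.card F = 32 ∧ K.Normal ∧ K.index = 5 ∧ Nonempty (↥K ≃* Matrix.ProjectiveSpecialLinearGroup (Fin 2) F)) ∧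
    (∃ M : Subgroup 𝒢, IsCoatom M ∧ Nonempty (↥M ≃* GL (Fin 2) (ZMod 23) ⧸ Subgroup.center (GL (Fin 2) (ZMod 23)))) ∧
    (∃ M : Subgroup 𝒢, IsCoatom M ∧ ∃ (F : Type) (_ : Field F) (_ : Fintype F), Fintype.card F = 9 ∧ Nonempty (↥M ≃* Cfsg.PSU 3 F 3))

theorem HasStd.congr {T T' : Type} [Group T] [Group T'] (e : T ≃* T') {c : ℕ} (h : HasStd T c) : HasStd T' c := by
  obtain ⟨M, S, h1, ⟨f⟩, h2⟩ := h
  exact ⟨M, S, h1, ⟨f.trans e⟩, h2⟩

theorem std_u311 (H : St81) {F : Type} [Field F] [Fintype F] (hF : Fintype.card F = 121) :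
    HasStd (PSU 3 F 11) 141831360 := by
  obtain ⟨⟨M, hM, K, F', i, j, hF', hKn, hKi, ⟨e⟩⟩, -⟩ := H
  have hF'' : Fintype.card F' = 11 ^ 2 := by rw [hF']; norm_num
  have e' : K.map M.subtype ≃* PSU 3 F' 11 := (K.equivMapOfInjective _ M.subtype_injective).symm.trans e
  have h1 : Nat.card (PSU 3 F' 11) = 70915680 := (card_psu hF'' (by norm_num) e').trans (by decide +kernel)
  have h2 := std_of (S0283.result hF'' 3 le_rfl (by norm_num)) hM K hKn hKi e h1 (by norm_num) (by
    right; left; exact ⟨rfl, by norm_num⟩)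
  refine HasStd.congr ?_ h2
  exact SporadicStructure.PsuMatch.psuCongr (FiniteField.ringEquivOfCardEq (K := F') (K' := F) (hF'.trans hF.symm)) 3 11

theorem std_u33 (H : St81) {F : Type} [Field F] [Fintype F] (hF : Fintype.card F = 9) :
    HasStd (PSU 3 F 3) 6048 := by
  obtain ⟨-, -, -, -, ⟨M, hM, F', i, j, hF', ⟨e⟩⟩⟩ := H
  have hF'' : Fintype.card F' = 3 ^ 2 := by rw [hF']; norm_num
  have h1 : Nat.card (PSU 3 F' 3) = 6048 := (card_psu hF'' (by norm_num) e).trans (by decide +kernel)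
  have e' : (⊤ : Subgroup M) ≃* PSU 3 F' 3 := Subgroup.topEquiv.trans e
  have h2 := std_of (m := 1) (S0283.result hF'' 3 le_rfl (by norm_num)) hM ⊤ inferInstance Subgroup.index_top e' h1
    (by norm_num) (by left; rfl)
  refine HasStd.congr ?_ h2
  exact SporadicStructure.PsuMatch.psuCongr (FiniteField.ringEquivOfCardEq (K := F') (K' := F) (hF'.trans hF.symm)) 3 3

theorem std_l32 (H : St81) {F : Type} [Field F] [Fintype F] (hF : Fintype.card F = 32) :
    HasStd (Matrix.ProjectiveSpecialLinearGroup (Fin 2) F) 163680 := by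
  obtain ⟨-, -, ⟨M, hM, K, F', i, j, hF', hKn, hKi, ⟨e⟩⟩, -⟩ := H
  have e' : K.map M.subtype ≃* Matrix.ProjectiveSpecialLinearGroup (Fin 2) F' :=
    (K.equivMapOfInjective _ M.subtype_injective).symm.trans e
  have h1 : Nat.card (Matrix.ProjectiveSpecialLinearGroup (Fin 2) F') = 32736 :=
    (card_psl (by rw [hF']; norm_num) e').trans (by rw [hF']; decide +kernel)
  have h2 := std_of (Matrix.ProjectiveSpecialLinearGroup.rank_two_simple (by
    rw [Nat.card_eq_fintype_card, hF']; norm_num)) hM K hKn hKi e h1 (by norm_num) (by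
    right; right; exact ⟨rfl, by norm_num⟩)
  refine HasStd.congr ?_ h2
  exact LieClassical.SmallIso.pslCongr (Fin 2) (FiniteField.ringEquivOfCardEq (K := F') (K' := F) (hF'.trans hF.symm))

theorem std_l23 (H : St81) {F : Type} [Field F] [Fintype F] (hF : Fintype.card F = 23) :
    HasStd (Matrix.ProjectiveSpecialLinearGroup (Fin 2) F) 12144 := by
  have f23 : Fact (Nat.Prime 23) := ⟨by norm_num⟩
  obtain ⟨-, -, -, ⟨M, hM, ⟨e⟩⟩, -⟩ := H
  have hMc : Nat.card M = 12144 := by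
    rw [Nat.card_congr e.toEquiv, Cfsg.Agent.H397.ZAut.card_pgl, ZMod.card]
    norm_num
  let e2 : M ≃* Matrix.ProjGenLinGroup (Fin 2) (ZMod 23) := e
  let t : Matrix.ProjectiveSpecialLinearGroup (Fin 2) (ZMod 23) →* Matrix.ProjGenLinGroup (Fin 2) (ZMod 23) :=
    Matrix.ProjectiveSpecialLinearGroup.toPGL
  have ht : Function.Injective t := Matrix.ProjectiveSpecialLinearGroup.toPGL_injective
  let f : Matrix.ProjectiveSpecialLinearGroup (Fin 2) (ZMod 23) →* M := (e2.symm : _ →* M).comp t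
  have hf : Function.Injective f := e2.symm.injective.comp ht
  let K : Subgroup M := f.range
  have eK : K ≃* Matrix.ProjectiveSpecialLinearGroup (Fin 2) (ZMod 23) := (MonoidHom.ofInjective hf).symm
  have e' : K.map M.subtype ≃* Matrix.ProjectiveSpecialLinearGroup (Fin 2) (ZMod 23) :=
    (K.equivMapOfInjective _ M.subtype_injective).symm.trans eK
  have h1 : Nat.card (Matrix.ProjectiveSpecialLinearGroup (Fin 2) (ZMod 23)) = 6072 :=
    (card_psl (by rw [ZMod.card]; norm_num) e').trans (by rw [ZMod.card]; decide +kernel)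
  have hKi : K.index = 2 := by
    have h2 := K.card_mul_index
    rw [Nat.card_congr eK.toEquiv, h1, hMc] at h2
    omega
  have h2 := std_of (Matrix.ProjectiveSpecialLinearGroup.rank_two_simple (by
    rw [Nat.card_eq_fintype_card, ZMod.card]; norm_num)) hM K (Subgroup.normal_of_index_eq_two hKi) hKi eK h1
    (by norm_num) (by right; left; exact ⟨rfl, by norm_num⟩)
  refine HasStd.congr ?_ h2
  exact LieClassical.SmallIso.pslCongr (Fin 2) (FiniteField.ringEquivOfCardEq (K := ZMod 23) (K' := F) (by rw [ZMod.card, hF]))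

theorem std_m22 (H : St81) : HasStd Spor.M22 887040 := by
  obtain ⟨-, ⟨M, hM, ⟨e⟩⟩, -⟩ := H
  have hs : IsSimpleGroup Spor.M22 := SporadicA.MathieuRecog.simple_M22
  have hc : Nat.card Spor.M22 = 443520 := SporadicA.MathieuRecog.card_M22
  have hMc : Nat.card M = 887040 := by rw [Nat.card_congr e.toEquiv, H856.AutM22.card_aut]
  let t : Spor.M22 →* MulAut Spor.M22 := MulAut.conj
  have ht : Function.Injective t := by
    rw [← MonoidHom.ker_eq_bot_iff]
    rcases IsSimpleGroup.eq_bot_or_eq_top_of_normal t.ker inferInstance with h | h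
    · exact h
    · exfalso
      have h1 : ¬ IsMulCommutative Spor.M22 :=
        Classification.SimpleIndex.not_comm_of_not_prime (G := Spor.M22) (by rw [hc]; norm_num)
      apply h1
      refine ⟨⟨fun a b => ?_⟩⟩
      have h2 : a ∈ t.ker := h ▸ mem_top a
      have h3 := DFunLike.congr_fun (MonoidHom.mem_ker.1 h2) b
      have h4 : a * b * a⁻¹ = b := h3
      exact mul_inv_eq_iff_eq_mul.1 h4
  let f : Spor.M22 →* M := (e.symm : _ →* M).comp t
  have hf : Function.Injective f := e.symm.injective.comp ht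
  let K : Subgroup M := f.range
  have eK : K ≃* Spor.M22 := (MonoidHom.ofInjective hf).symm
  have hKi : K.index = 2 := by
    have h2 := K.card_mul_index
    rw [Nat.card_congr eK.toEquiv, hc, hMc] at h2
    omega
  exact std_of hs hM K (Subgroup.normal_of_index_eq_two hKi) hKi eK hc
    (by norm_num) (by right; left; exact ⟨rfl, by norm_num⟩)

end Cfsg.Agent.H854.JM
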